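import Groth.Agent.L11.IsoNat.Sep
import Groth.Agent.L11.IsoNat.PtsAut
import Groth.Agent.L24.St.Bootstrap2
import Groth.Agent.L24.St.LocPStack
import Groth.Agent.L26.Neron.SchDense
import Groth.Prelude.Def_W4c2isonaturalstkIso
import Mathlib.AlgebraicGeometry.Morphisms.ClosedImmersion

/-!
Rigidity of the groupoid of a smooth chart of a bald stack.
-/

set_option autoImplicit false
set_option backward.isDefEq.respectTransparency false
set_option backward.isDefEq.respectTransparency.types false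

universe u

open CategoryTheory CategoryTheory.Limits AlgebraicGeometry Groth.L24.St

noncomputable section

namespace Groth.L11.IsoNat.Bald

variable {S : Scheme.{u}} {𝒳 : AlgSt.Cat S}

/-- Every smooth chart is clean on a schematically dense open. -/
def IsBald (𝒳 : AlgSt.Cat S) : Prop :=
  ∀ (U : Over S) (x : FibCat.overCat U ⥤ᵇ 𝒳), AlgSt.RepByAlgSpWith (AlgSp.LocP @Smooth) x →
    ∃ V : U.left.Opens,
      (∀ (T : Over S) (g : T ⟶ U), (∃ g' : T.left ⟶ ↑V, g' ≫ V.ι = g.left) ↔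
        IsoNat.IsClean (x.obj (Over.mk g))) ∧ CInt.IsSchematicallyDense V

/-- Points of a chart with itself with smooth first leg are determined by their legs. -/
def Rigid {U : Over S} (x : FibCat.overCat U ⥤ᵇ 𝒳) : Prop :=
  ∀ ⦃T : Over S⦄ (p q : Pt x x T), p.b = q.b → p.a = q.a → Smooth p.b.left → p = q

theorem closedDense_of_schDense {T : Over S} {V : T.left.Opens} (hV : CInt.IsSchematicallyDense V) :
    ClosedDense (Over.homMk V.ι rfl : Over.mk (V.ι ≫ T.hom) ⟶ T) := by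
  rintro Z i hi ⟨l, hl⟩
  exact IsClosedImmersion.isIso_iff_ker_eq_bot.2 (Groth.Agent.NeronL.ker_eq_bot_of_schDense hV i l hl)

theorem rigid_of_bald (hd : AlgSt.RepByAlgSpWith (AlgSp.IsSeparatedMor ⊓ AlgSp.IsQuasiCompactMor)
      (FibCat.diag (FibCat.toSelf 𝒳))) (h : FibCat.IsFibGrpd 𝒳.p) (hb : IsBald 𝒳) {U : Over S}
    {x : FibCat.overCat U ⥤ᵇ 𝒳} (hx : AlgSt.RepByAlgSpWith (AlgSp.LocP @Smooth) x) : Rigid x := by
  intro T p q eb ea hsm
  obtain ⟨b, a, θ, hθ⟩ := p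
  obtain ⟨b', a', θ', hθ'⟩ := q
  dsimp at eb ea hsm
  subst eb; subst ea
  suffices θ = θ' by subst this; rfl
  have := hsm
  obtain ⟨V, hV, hdense⟩ := hb T (BasedFunctor.comp (AlgSt.overMap b) x)
    (repWith_comp_locP Groth.L23.etLocal_smooth (overCat_isFibGrpd T) (overCat_isFibGrpd U) (smooth_overMap b) hx)
  let j : Over.mk (V.ι ≫ T.hom) ⟶ T := Over.homMk V.ι rfl
  have hclean : IsoNat.IsClean (x.obj (Over.mk (j ≫ b))) := (hV _ j).1 ⟨𝟙 _, Category.id_comp _⟩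
  let z : 𝒳.p.Fiber T := atFib x b
  let z' : 𝒳.p.Fiber (Over.mk (V.ι ≫ T.hom)) := atFib x (j ≫ b)
  let π : z'.1 ⟶ z.1 := x.map (ovm j rfl)
  have hπ : 𝒳.p.IsHomLift j π := map_ovm_lift x j rfl
  let m : z ⟶ z := mkHom (θ.hom ≫ θ'.inv) (h := ((hθ.comp hθ'.inv)).lift (x.w_obj _))
  have : 𝒳.p.IsHomLift (𝟙 T) m.1 := m.2
  have hm : 𝒳.p.IsHomLift j (π ≫ m.1) := IsHomLift.comp_lift_id_right' 𝒳.p j π T m.1
  obtain ⟨c, hc⟩ := exists_factor₁ h j (x'' := z') (x' := z') (x := z) π (π ≫ m.1)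
  have hc1 : c.1 = 𝟙 z'.1 := by
    refine hclean _ (𝟙 _) c.1 ?_
    obtain ⟨_, h1⟩ := (overId_of_lift c.2 : OverId c.1).eq
    exact h1.trans (eqToHom_refl _ _)
  have key : m = 𝟙 z := aut_ext_of_dense hd h (closedDense_of_schDense hdense) π m (𝟙 z) (by
    rw [hc1, Category.id_comp] at hc
    rw [← hc]; exact (Category.comp_id _).symm)
  have hk : θ.hom ≫ θ'.inv = 𝟙 _ := congrArg Subtype.val key
  ext
  rwa [Iso.comp_inv_eq, Category.id_comp] at hk

end Groth.L11.IsoNat.Bald
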