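import Groth.Agent.L11.IsoNat.Charts
import Groth.Agent.L11.IsoNat.Bald.Rigid
import Groth.Agent.L23.Epi

/-!
The groupoids of two corresponding rigid smooth charts are isomorphic.
-/

set_option autoImplicit false
set_option backward.isDefEq.respectTransparency false
set_option backward.isDefEq.respectTransparency.types false

universe u

open CategoryTheory CategoryTheory.Limits AlgebraicGeometry Groth.L24.St

noncomputable section

namespace Groth.L11.IsoNat.Bald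

variable {S : Scheme.{u}} {𝒳 𝒴 : AlgSt.Cat S} {U : Over S}
  {x : FibCat.overCat U ⥤ᵇ 𝒳} {y : FibCat.overCat U ⥤ᵇ 𝒴}

/-- The second projection. -/
def d2 (R : FpRep x x) : R.F.obj ⟶ (AlgSp.yon S).obj U :=
  AlgSt.spMapOfOver (BasedFunctor.comp (BasedFunctor.comp R.e fpSwap) (FibCat.fpFst x x))

theorem map_d2 (R : FpRep x x) {T : Over S} (l : (AlgSp.yon S).obj T ⟶ R.F.obj) :
    l ≫ d2 R = (AlgSp.yon S).map (R.pt l).a := map_a R l

/-- A map of spaces over both projections. -/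
def Compat (R : FpRep x x) (Q : FpRep y y) (A : R.F.obj ⟶ Q.F.obj) : Prop :=
  A ≫ Q.d = R.d ∧ A ≫ d2 Q = d2 R

/-- Points transfer with the same legs. -/
def Transfers (x : FibCat.overCat U ⥤ᵇ 𝒳) (y : FibCat.overCat U ⥤ᵇ 𝒴) : Prop :=
  ∀ ⦃T : Over S⦄ (p : Pt x x T), ∃ q : Pt y y T, q.b = p.b ∧ q.a = p.a

variable {R : FpRep x x} {Q : FpRep y y}

theorem smooth_b (hR : AlgSp.LocP @Smooth R.d) {W : Over S} {a₀ : (AlgSp.yon S).obj W ⟶ R.F.obj}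
    (ha : AlgSp.RepWith @Etale a₀) : Smooth (R.pt a₀).b.left :=
  hR a₀ (𝟙 _) (R.pt a₀).b ha (AlgSp.repWith_id _ U) (by rw [Category.comp_id]; exact R.map_b a₀)

theorem exists_compat (hR : AlgSp.LocP @Smooth R.d) (hy : Rigid y) (tr : Transfers x y) (Q : FpRep y y) :
    ∃ A, Compat R Q A := by
  obtain ⟨W, a₀, ha, has⟩ := R.F.property.atlas
  have := Groth.L23.epi_of_repWith a₀ ha has
  obtain ⟨q, hqb, hqa⟩ := tr (R.pt a₀)
  obtain ⟨W', j, c, sq⟩ := Groth.L23.exists_isPullback_of_representable ha.1 a₀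
  have hj : Etale j.left := Groth.L23.repWith_prop ha sq.flip
  obtain ⟨hc⟩ := Groth.L23.nonempty_isColimit_cofork a₀ sq
  have hb : j ≫ q.b = c ≫ q.b := yon_map_cancel (by
    rw [(AlgSp.yon S).map_comp, (AlgSp.yon S).map_comp, hqb, ← R.map_b a₀]
    exact (reassoc_of% sq.w) _)
  have hsec : ∀ (r : W' ⟶ W), (Q.pt ((AlgSp.yon S).map r ≫ Q.sec q)).b = r ≫ q.b ∧
      (Q.pt ((AlgSp.yon S).map r ≫ Q.sec q)).a = r ≫ q.a := fun r => by
    obtain ⟨h1, h2, -⟩ := Q.pt_restr r (Q.sec q)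
    rw [Q.pt_sec] at h1 h2
    exact ⟨h1.symm, h2.symm⟩
  have hsa : j ≫ q.a = c ≫ q.a := yon_map_cancel (by
    rw [(AlgSp.yon S).map_comp, (AlgSp.yon S).map_comp, hqa, ← map_d2 R a₀]
    exact (reassoc_of% sq.w) _)
  have hw : (AlgSp.yon S).map j ≫ Q.sec q = (AlgSp.yon S).map c ≫ Q.sec q := by
    refine Q.pt_injective (hy _ _ ?_ ?_ ?_)
    · rw [(hsec j).1, (hsec c).1, hb]
    · rw [(hsec j).2, (hsec c).2, hsa]
    · rw [(hsec j).1, hqb]
      have := smooth_b hR ha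
      show Smooth (j.left ≫ (R.pt a₀).b.left)
      infer_instance
  let A : R.F.obj ⟶ Q.F.obj := hc.desc (Cofork.ofπ (Q.sec q) hw)
  have hA : a₀ ≫ A = Q.sec q := hc.fac (Cofork.ofπ (Q.sec q) hw) WalkingParallelPair.one
  refine ⟨A, ?_, ?_⟩
  · rw [← cancel_epi a₀, ← Category.assoc, hA, Q.sec_d, R.map_b, hqb]
  · rw [← cancel_epi a₀, ← Category.assoc, hA, map_d2, Q.pt_sec, map_d2, hqa]

/-- The point corresponding to a point. -/
def corr (R : FpRep x x) (Q : FpRep y y) (A : R.F.obj ⟶ Q.F.obj) {T : Over S} (p : Pt x x T) : Pt y y T :=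
  Q.pt (R.sec p ≫ A)

variable {A : R.F.obj ⟶ Q.F.obj} (hA : Compat R Q A)

theorem corr_restr (A : R.F.obj ⟶ Q.F.obj) {T' T : Over S} {r : T' ⟶ T} {p' : Pt x x T'} {p : Pt x x T}
    (h : Restr r p' p) : Restr r (corr R Q A p') (corr R Q A p) := by
  have h1 := Q.pt_restr r (R.sec p ≫ A)
  rw [← Category.assoc, R.sec_restr h] at h1
  exact h1

include hA

theorem corr_b {T : Over S} (p : Pt x x T) : (corr R Q A p).b = p.b := yon_map_cancel (by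
  rw [corr, ← Q.map_b, Category.assoc, hA.1, R.sec_d])

theorem corr_a {T : Over S} (p : Pt x x T) : (corr R Q A p).a = p.a := yon_map_cancel (by
  rw [corr, ← map_d2, Category.assoc, hA.2, map_d2, R.pt_sec])

omit hA

theorem endo_eq_id (hR : AlgSp.LocP @Smooth R.d) (hx : Rigid x) {C : R.F.obj ⟶ R.F.obj} (hC : Compat R R C) :
    C = 𝟙 _ := by
  obtain ⟨W, a₀, ha, has⟩ := R.F.property.atlas
  have := Groth.L23.epi_of_repWith a₀ ha has
  rw [← cancel_epi a₀, Category.comp_id]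
  have hb := corr_b hC (R.pt a₀)
  have hca := corr_a hC (R.pt a₀)
  rw [corr, R.sec_pt] at hb hca
  refine R.pt_injective (hx _ _ hb hca ?_)
  rw [hb]
  exact smooth_b hR ha

theorem pt_ext_cover (Q : FpRep y y) {T' T : Over S} (c : T' ⟶ T) [Etale c.left] [Surjective c.left]
    {L : Pt y y T'} {p p' : Pt y y T} (h : Restr c L p) (h' : Restr c L p') : p = p' := by
  have : Epi ((AlgSp.yon S).map c) := Groth.L23.epi_of_repWith _
    ((AlgSp.repWith_yon_map_iff @Etale c).2 ‹_›) ((AlgSp.repWith_yon_map_iff @Surjective c).2 ‹_›)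
  rw [← Q.pt_sec p, ← Q.pt_sec p']
  congr 1
  rw [← cancel_epi ((AlgSp.yon S).map c), Q.sec_restr h, Q.sec_restr h']

/-! ### Arrows with prescribed legs -/

/-- An arrow of the groupoid of a chart. -/
structure Hm (f : FibCat.overCat U ⥤ᵇ 𝒳) {T : Over S} (b a : T ⟶ U) where
  /-- the isomorphism -/
  g : f.obj (Over.mk b) ≅ f.obj (Over.mk a)
  hg : OverId g.hom

section

variable {f : FibCat.overCat U ⥤ᵇ 𝒳} {T T' : Over S} {b a e : T ⟶ U} {b' a' e' : T' ⟶ U}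

/-- The point of an arrow. -/
def Hm.pt (θ : Hm f b a) : Pt f f T := ⟨b, a, θ.g, θ.hg⟩

theorem Hm.ext_pt {θ θ' : Hm f b a} (h : θ.pt = θ'.pt) : θ = θ' := by
  obtain ⟨g, hg⟩ := θ
  obtain ⟨g', hg'⟩ := θ'
  simp only [Hm.pt, Pt.mk.injEq, heq_eq_eq, true_and] at h
  subst h; rfl

theorem exists_hm (p : Pt f f T) (hb : p.b = b) (ha : p.a = a) : ∃ θ : Hm f b a, θ.pt = p := by
  obtain ⟨b₁, a₁, g, hg⟩ := p
  dsimp at hb ha
  subst hb; subst ha
  exact ⟨⟨g, hg⟩, rfl⟩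

/-- Composition. -/
def Hm.comp (θ : Hm f b a) (θ' : Hm f a e) : Hm f b e := ⟨θ.g ≪≫ θ'.g, θ.hg.comp θ'.hg⟩

/-- The identity. -/
def Hm.refl (f : FibCat.overCat U ⥤ᵇ 𝒳) (b : T ⟶ U) : Hm f b b := ⟨Iso.refl _, overId_id _⟩

theorem exists_hRestr (h : FibCat.IsFibGrpd 𝒳.p) (r : T' ⟶ T) (hb : r ≫ b = b') (ha : r ≫ a = a')
    (θ : Hm f b a) : ∃ θ' : Hm f b' a', Restr r θ'.pt θ.pt := by
  obtain ⟨p, hp⟩ := exists_restr h r θ.pt
  obtain ⟨θ', rfl⟩ := exists_hm p (b := b') (a := a') (hp.choose.symm.trans hb) (hp.choose_spec.choose.symm.trans ha)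
  exact ⟨θ', hp⟩

theorem restr_comp {r : T' ⟶ T} {θ' : Hm f b' a'} {θ : Hm f b a} {η' : Hm f a' e'} {η : Hm f a e}
    (h : Restr r θ'.pt θ.pt) (k : Restr r η'.pt η.pt) : Restr r (θ'.comp η').pt (θ.comp η).pt := by
  obtain ⟨hb, ha, w⟩ := h
  obtain ⟨_, he, w'⟩ := k
  refine ⟨hb, he, ?_⟩
  show f.map (ovm r hb) ≫ θ.g.hom ≫ η.g.hom = (θ'.g.hom ≫ η'.g.hom) ≫ f.map (ovm r he)
  exact (Category.assoc _ _ _).symm.trans ((congrArg (· ≫ η.g.hom) w).trans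
    ((Category.assoc _ _ _).trans ((congrArg (θ'.g.hom ≫ ·) w').trans (Category.assoc _ _ _).symm)))

end

variable {T T' : Over S} {b a e : T ⟶ U} {b' a' : T' ⟶ U}

theorem exists_corrH (hA : Compat R Q A) (θ : Hm x b a) : ∃ θ' : Hm y b a, θ'.pt = corr R Q A θ.pt :=
  exists_hm _ (corr_b hA θ.pt) (corr_a hA θ.pt)

/-- The arrow corresponding to an arrow. -/
def corrH (hA : Compat R Q A) (θ : Hm x b a) : Hm y b a := (exists_corrH hA θ).choose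

theorem corrH_pt (hA : Compat R Q A) (θ : Hm x b a) : (corrH hA θ).pt = corr R Q A θ.pt :=
  (exists_corrH hA θ).choose_spec

theorem corrH_restr (hA : Compat R Q A) {r : T' ⟶ T} {θ' : Hm x b' a'} {θ : Hm x b a} (h : Restr r θ'.pt θ.pt) :
    Restr r (corrH hA θ').pt (corrH hA θ).pt := by
  rw [corrH_pt, corrH_pt]
  exact corr_restr A h

theorem corrH_comp (hA : Compat R Q A) (hR : AlgSp.LocP @Smooth R.d) (hy : Rigid y) (θ : Hm x b a)
    (θ' : Hm x a e) : corrH hA (θ.comp θ') = (corrH hA θ).comp (corrH hA θ') := by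
  have hg := R.grpd
  obtain ⟨W, a₀, ha, has⟩ := R.F.property.atlas
  have hsm := smooth_b hR ha
  let p₀ := R.pt a₀
  let θ₀ : Hm x p₀.b p₀.a := ⟨p₀.θ, p₀.hθ⟩
  -- a common refinement of lifts to the chart
  obtain ⟨W₁, j₁, c₁, sq₁⟩ := Groth.L23.exists_isPullback_of_representable ha.1 (R.sec θ.pt)
  obtain ⟨W₂, j₂, c₂, sq₂⟩ :=
    Groth.L23.exists_isPullback_of_representable ha.1 ((AlgSp.yon S).map c₁ ≫ R.sec θ'.pt)
  have : Etale c₁.left := Groth.L23.repWith_prop ha sq₁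
  have : Surjective c₁.left := Groth.L23.repWith_prop has sq₁
  have : Etale c₂.left := Groth.L23.repWith_prop ha sq₂
  have : Surjective c₂.left := Groth.L23.repWith_prop has sq₂
  let c : W₂ ⟶ T := c₂ ≫ c₁
  let k₁ : W₂ ⟶ W := c₂ ≫ j₁
  have : Etale c.left := inferInstanceAs (Etale (c₂.left ≫ c₁.left))
  have : Surjective c.left := inferInstanceAs (Surjective (c₂.left ≫ c₁.left))
  have hk₁ : (AlgSp.yon S).map k₁ ≫ a₀ = (AlgSp.yon S).map c ≫ R.sec θ.pt := by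
    simp only [k₁, c, Functor.map_comp, Category.assoc, sq₁.w]
  have hk₂ : (AlgSp.yon S).map j₂ ≫ a₀ = (AlgSp.yon S).map c ≫ R.sec θ'.pt := by
    simp only [c, Functor.map_comp, Category.assoc, sq₂.w]
  have key : ∀ {k : W₂ ⟶ W} {β α : T ⟶ U} {η : Hm x β α} {b₁ a₁ : W₂ ⟶ U} {ψ : Hm x b₁ a₁},
      (AlgSp.yon S).map k ≫ a₀ = (AlgSp.yon S).map c ≫ R.sec η.pt → Restr c ψ.pt η.pt →
        Restr k ψ.pt p₀ ∧ k ≫ p₀.b = b₁ ∧ k ≫ p₀.a = a₁ := by
    intro k β α η b₁ a₁ ψ hk hψ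
    have h1 := R.pt_restr c (R.sec η.pt)
    rw [R.pt_sec] at h1
    have h2 := R.pt_restr k a₀
    rw [hk, Restr.unique hg h1 hψ] at h2
    exact ⟨h2, h2.choose, h2.choose_spec.choose⟩
  obtain ⟨ψ₁, hψ₁⟩ := exists_hRestr hg c (b' := c ≫ b) (a' := c ≫ a) rfl rfl θ
  obtain ⟨ψ₂, hψ₂⟩ := exists_hRestr hg c (b' := c ≫ a) (a' := c ≫ e) rfl rfl θ'
  obtain ⟨h₁, hb₁, ha₁⟩ := key hk₁ hψ₁
  obtain ⟨h₂, hb₂, ha₂⟩ := key hk₂ hψ₂
  -- the space of composable pairs of the chart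
  let P : Over S := Over.mk (pullback.fst p₀.a.left p₀.b.left ≫ W.hom)
  let π₁ : P ⟶ W := Over.homMk (pullback.fst p₀.a.left p₀.b.left) rfl
  let π₂ : P ⟶ W := Over.homMk (pullback.snd p₀.a.left p₀.b.left) (by
    show pullback.snd p₀.a.left p₀.b.left ≫ W.hom = pullback.fst p₀.a.left p₀.b.left ≫ W.hom
    calc _ = pullback.snd p₀.a.left p₀.b.left ≫ p₀.b.left ≫ U.hom := by rw [Over.w p₀.b]
      _ = pullback.fst p₀.a.left p₀.b.left ≫ p₀.a.left ≫ U.hom := by rw [← pullback.condition_assoc]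
      _ = _ := by rw [Over.w p₀.a])
  have hπ : π₁ ≫ p₀.a = π₂ ≫ p₀.b := Over.OverMorphism.ext pullback.condition
  have hkk : k₁.left ≫ p₀.a.left = j₂.left ≫ p₀.b.left :=
    congrArg (fun t => t.left) (ha₁.trans hb₂.symm)
  let m : W₂ ⟶ P := Over.homMk (pullback.lift k₁.left j₂.left hkk) (by
    show pullback.lift k₁.left j₂.left hkk ≫ pullback.fst _ _ ≫ W.hom = W₂.hom
    rw [pullback.lift_fst_assoc]
    exact Over.w k₁)
  have hm₁ : m ≫ π₁ = k₁ := Over.OverMorphism.ext (pullback.lift_fst _ _ _)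
  have hm₂ : m ≫ π₂ = j₂ := Over.OverMorphism.ext (pullback.lift_snd _ _ _)
  obtain ⟨φ₁, hφ₁⟩ := exists_hRestr hg π₁ (b' := π₁ ≫ p₀.b) (a' := π₁ ≫ p₀.a) rfl rfl θ₀
  obtain ⟨φ₂, hφ₂⟩ := exists_hRestr hg π₂ (b' := π₁ ≫ p₀.a) (a' := π₂ ≫ p₀.a) hπ.symm rfl θ₀
  have hrig : corrH hA (φ₁.comp φ₂) = (corrH hA φ₁).comp (corrH hA φ₂) := by
    refine Hm.ext_pt (hy _ _ rfl rfl ?_)
    show Smooth (pullback.fst p₀.a.left p₀.b.left ≫ p₀.b.left)
    infer_instance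
  obtain ⟨ψ₁', hψ₁'⟩ := exists_hRestr hg m (b' := c ≫ b) (a' := c ≫ a)
    (by rw [← Category.assoc, hm₁]; exact hb₁) (by rw [← Category.assoc, hm₁]; exact ha₁) φ₁
  obtain ⟨ψ₂', hψ₂'⟩ := exists_hRestr hg m (b' := c ≫ a) (a' := c ≫ e)
    (by rw [← Category.assoc, hm₁]; exact ha₁) (by rw [← Category.assoc, hm₂]; exact ha₂) φ₂
  obtain rfl : ψ₁' = ψ₁ := Hm.ext_pt (Restr.unique hg (hm₁ ▸ hψ₁'.trans hφ₁) h₁)
  obtain rfl : ψ₂' = ψ₂ := Hm.ext_pt (Restr.unique hg (hm₂ ▸ hψ₂'.trans hφ₂) h₂)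
  have hL : (corrH hA (ψ₁'.comp ψ₂')).pt = ((corrH hA ψ₁').comp (corrH hA ψ₂')).pt := by
    have l1 := corrH_restr hA (restr_comp hψ₁' hψ₂')
    rw [hrig] at l1
    exact Restr.unique Q.grpd l1 (restr_comp (corrH_restr hA hψ₁') (corrH_restr hA hψ₂'))
  refine Hm.ext_pt (pt_ext_cover Q c (L := (corrH hA (ψ₁'.comp ψ₂')).pt)
    (corrH_restr hA (restr_comp hψ₁ hψ₂)) ?_)
  rw [hL]
  exact restr_comp (corrH_restr hA hψ₁) (corrH_restr hA hψ₂)

theorem corrH_refl (hA : Compat R Q A) (hR : AlgSp.LocP @Smooth R.d) (hy : Rigid y) (b : T ⟶ U) :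
    corrH hA (Hm.refl x b) = Hm.refl y b := by
  have h := corrH_comp hA hR hy (Hm.refl x b) (Hm.refl x b)
  rw [show (Hm.refl x b).comp (Hm.refl x b) = Hm.refl x b from Hm.ext_pt (by simp [Hm.refl, Hm.comp, Hm.pt])] at h
  obtain ⟨g, hg⟩ : ∃ g, corrH hA (Hm.refl x b) = g := ⟨_, rfl⟩
  rw [hg] at h ⊢
  obtain ⟨g, hg'⟩ := g
  have e : g = g ≪≫ g := congrArg Hm.g h
  have : g = Iso.refl _ := Iso.ext ((cancel_epi g.hom).1 ((congrArg Iso.hom e).symm.trans (Category.comp_id _).symm))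
  subst this; rfl

theorem corrH_inv (hA : Compat R Q A) {B : Q.F.obj ⟶ R.F.obj} (hB : Compat Q R B)
    (hAB : A ≫ B = 𝟙 _) (θ : Hm x b a) : corrH hB (corrH hA θ) = θ := by
  refine Hm.ext_pt ?_
  rw [corrH_pt, corrH_pt]
  show R.pt (Q.sec (Q.pt (R.sec θ.pt ≫ A)) ≫ B) = θ.pt
  rw [Q.sec_pt, Category.assoc, hAB, Category.comp_id, R.pt_sec]

theorem exists_inverse_compat (hR : AlgSp.LocP @Smooth R.d) (hx : Rigid x) (tr : Transfers y x)
    (hQ : AlgSp.LocP @Smooth Q.d) (hy : Rigid y) (hA : Compat R Q A) :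
    ∃ B : Q.F.obj ⟶ R.F.obj, Compat Q R B ∧ A ≫ B = 𝟙 _ ∧ B ≫ A = 𝟙 _ := by
  obtain ⟨B, hB⟩ := exists_compat hQ hx tr R
  refine ⟨B, hB, endo_eq_id hR hx ⟨?_, ?_⟩, endo_eq_id hQ hy ⟨?_, ?_⟩⟩
  · rw [Category.assoc, hB.1, hA.1]
  · rw [Category.assoc, hB.2, hA.2]
  · rw [Category.assoc, hA.1, hB.1]
  · rw [Category.assoc, hA.2, hB.2]

end Groth.L11.IsoNat.Bald
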