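import Groth.Agent.L09.StkLift
import Groth.Agent.L09.StkGlue
import Groth.Agent.L09.GerbBasic
import Groth.Agent.L24.St.Calc

/-!
Morphisms and objects of a stack glued from a locally surjective fully faithful functor.
-/

set_option autoImplicit false
set_option backward.isDefEq.respectTransparency false
set_option backward.isDefEq.respectTransparency.types false

universe v₄ u₄ v₃ u₃ v₂ u₂ v u

open CategoryTheory Category Functor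

noncomputable section

namespace Groth.L11.IsoNat.Bald

variable {C : Type u} [Category.{v} C] {J : GrothendieckTopology C} {𝒰 : BasedCategory.{v₄, u₄} C}
  {𝒳 : BasedCategory.{v₂, u₂} C} {𝒴 : BasedCategory.{v₃, u₃} C}

theorem lift_map_base (F : 𝒰 ⥤ᵇ 𝒳) {u v : 𝒰.obj} (d : u ⟶ v) : 𝒳.p.IsHomLift (𝒰.p.map d) (F.map d) :=
  (BasedFunctor.isHomLift_iff F (𝒰.p.map d) d).2 (IsHomLift.map 𝒰.p d)

theorem base_unique {a b : 𝒳.obj} {R S : C} (f f' : R ⟶ S) (φ : a ⟶ b) [h : 𝒳.p.IsHomLift f φ]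
    [h' : 𝒳.p.IsHomLift f' φ] : f = f' := by
  have e1 := IsHomLift.fac 𝒳.p f φ
  have e2 := IsHomLift.fac 𝒳.p f' φ
  exact e1.trans e2.symm

/-- Two morphisms over one arrow agree if they agree after lifts of a covering sieve. -/
theorem eq_of_cover (hX : Stk.IsStack J 𝒳) {T T' : C} {R : Sieve T} (hR : R ∈ J T) {ξ ξ' : 𝒳.obj} (h : T ⟶ T')
    (m m' : ξ ⟶ ξ') [hm : 𝒳.p.IsHomLift h m] [hm' : 𝒳.p.IsHomLift h m']
    (H : ∀ ⦃V : C⦄ (f : V ⟶ T), R f → ∃ (z : 𝒳.obj) (π : z ⟶ ξ), 𝒳.p.IsHomLift f π ∧ π ≫ m = π ≫ m') :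
    m = m' := by
  have : (Stk.resSieve R 𝒳).IsEquivalence := hX.2 R hR
  have := Groth.L09.Fib.stronglyCartesian_of_isFibGrpd 𝒳.p hX.1 h m
  let c := IsCartesian.map 𝒳.p h m m'
  have hc : c ≫ m = m' := IsCartesian.fac _ _ _ _
  have : 𝒳.p.IsHomLift (𝟙 T) c := IsCartesian.map_isHomLift _ _ _ _
  have : 𝒳.p.IsHomLift (𝟙 T) (𝟙 ξ) := IsHomLift.id (IsHomLift.domain_eq 𝒳.p h m)
  have key : 𝟙 ξ = c := by
    refine Groth.L09.Stk.eq_of_locally hX.1 (R := R) inferInstance (𝟙 ξ) c fun V f hf => ?_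
    obtain ⟨z, π, hπ, e⟩ := H f hf
    refine ⟨z, π, hπ, ?_⟩
    have : 𝒳.p.IsHomLift f (π ≫ c) := IsHomLift.comp_lift_id_right' 𝒳.p f π T c
    rw [comp_id]
    have := hπ
    exact IsStronglyCartesian.ext 𝒳.p h m f (by rw [assoc, hc]; exact e)
  rw [← hc, ← key, id_comp]

/-- Lifts of arrows through a functor. -/
def LiftsIn (i : 𝒰 ⥤ᵇ 𝒳) (ξ : 𝒳.obj) {V T : C} (f : V ⟶ T) : Prop :=
  ∃ (u : 𝒰.obj) (g : i.obj u ⟶ ξ), 𝒳.p.IsHomLift f g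

/-- A morphism over an arrow of a sieve. -/
def OnR {T : C} (R : Sieve T) {z ξ : 𝒳.obj} (g : z ⟶ ξ) : Prop :=
  ∃ (V : C) (f : V ⟶ T), R f ∧ 𝒳.p.IsHomLift f g

theorem OnR.comp {T : C} {R : Sieve T} {z ξ : 𝒳.obj} {g : z ⟶ ξ} (h : OnR R g) {z' : 𝒳.obj} (a : z' ⟶ z) :
    OnR R (a ≫ g) := by
  obtain ⟨V, f, hf, hg⟩ := h
  obtain rfl := IsHomLift.domain_eq 𝒳.p f g
  exact ⟨_, 𝒳.p.map a ≫ f, R.downward_closed hf _, inferInstance⟩

/-- A natural family on lifts over a covering sieve glues to a morphism. -/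
theorem exists_glue (hX : Stk.IsStack J 𝒳) (i : 𝒰 ⥤ᵇ 𝒳) [i.toFunctor.Full] {T T' : C} {R : Sieve T} (hR : R ∈ J T)
    {ξ ξ' : 𝒳.obj} (hξ : 𝒳.p.obj ξ = T) (hξ' : 𝒳.p.obj ξ' = T') (h : T ⟶ T')
    (hlift : ∀ ⦃V : C⦄ (f : V ⟶ T), R f → LiftsIn i ξ f)
    (τ : ∀ (u : 𝒰.obj) (g : i.obj u ⟶ ξ), OnR R g → (i.obj u ⟶ ξ'))
    (hτb : ∀ (u : 𝒰.obj) (g : i.obj u ⟶ ξ) (hg : OnR R g) {V : C} (f : V ⟶ T), 𝒳.p.IsHomLift f g →
      𝒳.p.IsHomLift (f ≫ h) (τ u g hg))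
    (hnat : ∀ {v u : 𝒰.obj} (d : v ⟶ u) (g : i.obj u ⟶ ξ) (hg : OnR R g) (hg' : OnR R (i.map d ≫ g)),
      τ v (i.map d ≫ g) hg' = i.map d ≫ τ u g hg) :
    ∃ m : ξ ⟶ ξ', 𝒳.p.IsHomLift h m ∧ ∀ (u : 𝒰.obj) (g : i.obj u ⟶ ξ) (hg : OnR R g), g ≫ m = τ u g hg := by
  have := Groth.L09.Fib.isFibered_of_isFibGrpd _ hX.1
  obtain ⟨ξ'', c, hc⟩ := Groth.L09.Gerb.exists_pull hX.1 ξ' hξ' h
  have hξ'' : 𝒳.p.obj ξ'' = T := IsHomLift.domain_eq 𝒳.p h c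
  let G : FibCat.overCat T ⥤ᵇ 𝒳 := Groth.L09.Fib.ofObj hξ
  let G' : FibCat.overCat T ⥤ᵇ 𝒳 := Groth.L09.Fib.ofObj hξ''
  obtain ⟨ex⟩ := Groth.L09.Fib.evalAtId_ofObj (U := T) (⟨ξ, hξ⟩ : 𝒳.p.Fiber T)
  obtain ⟨ex'⟩ := Groth.L09.Fib.evalAtId_ofObj (U := T) (⟨ξ'', hξ''⟩ : 𝒳.p.Fiber T)
  have hexl : 𝒳.p.IsHomLift (𝟙 T) ex.hom.1 := ex.hom.2
  have hexl' : 𝒳.p.IsHomLift (𝟙 T) ex'.hom.1 := ex'.hom.2
  let κ : ∀ k : Over T, G.obj k ⟶ ξ := fun k => G.map (Groth.L09.Fib.toTerm k) ≫ ex.hom.1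
  let κ' : ∀ k : Over T, G'.obj k ⟶ ξ'' := fun k => G'.map (Groth.L09.Fib.toTerm k) ≫ ex'.hom.1
  have hκ : ∀ k : Over T, 𝒳.p.IsHomLift k.hom (κ k) := fun k =>
    @IsHomLift.comp_lift_id_right _ _ _ _ 𝒳.p _ _ _ _ _ k.hom (G.map (Groth.L09.Fib.toTerm k))
      ((BasedFunctor.isHomLift_iff G _ _).2 (Groth.L09.Fib.toTerm_lift k)) ex.hom.1 hexl
  have hκ' : ∀ k : Over T, 𝒳.p.IsHomLift k.hom (κ' k) := fun k =>
    @IsHomLift.comp_lift_id_right _ _ _ _ 𝒳.p _ _ _ _ _ k.hom (G'.map (Groth.L09.Fib.toTerm k))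
      ((BasedFunctor.isHomLift_iff G' _ _).2 (Groth.L09.Fib.toTerm_lift k)) ex'.hom.1 hexl'
  have hκn : ∀ {k l : Over T} (n : k ⟶ l), G.map n ≫ κ l = κ k := fun {k l} n => by
    show G.map n ≫ G.map _ ≫ _ = G.map _ ≫ _
    rw [← assoc, ← G.toFunctor.map_comp]
    exact congrArg (fun t => G.map t ≫ ex.hom.1) (Over.OverMorphism.ext (Over.w n))
  have hκn' : ∀ {k l : Over T} (n : k ⟶ l), G'.map n ≫ κ' l = κ' k := fun {k l} n => by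
    show G'.map n ≫ G'.map _ ≫ _ = G'.map _ ≫ _
    rw [← assoc, ← G'.toFunctor.map_comp]
    exact congrArg (fun t => G'.map t ≫ ex'.hom.1) (Over.OverMorphism.ext (Over.w n))
  have hcs := Groth.L09.Fib.stronglyCartesian_of_isFibGrpd 𝒳.p hX.1 h c
  -- the family with values in the pullback
  have hex : ∀ (u : 𝒰.obj) (g : i.obj u ⟶ ξ) (hg : OnR R g),
      ∃ t : i.obj u ⟶ ξ'', t ≫ c = τ u g hg ∧ ∀ {V : C} (f : V ⟶ T), 𝒳.p.IsHomLift f g → 𝒳.p.IsHomLift f t := by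
    intro u g hg
    obtain ⟨V, f, hf, hfg⟩ := id hg
    have := hτb u g hg f hfg
    refine ⟨IsStronglyCartesian.map 𝒳.p h c (g := f) rfl (τ u g hg), IsStronglyCartesian.fac _ _ _ _ _, fun {V'} f' hf' => ?_⟩
    obtain rfl : V = V' := (IsHomLift.domain_eq 𝒳.p f g).symm.trans (IsHomLift.domain_eq 𝒳.p f' g)
    obtain rfl : f = f' := base_unique (φ := g) f f'
    infer_instance
  choose t htc htb using hex
  have htn : ∀ {v u : 𝒰.obj} (d : v ⟶ u) (g : i.obj u ⟶ ξ) (hg : OnR R g) (hg' : OnR R (i.map d ≫ g)),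
      t v (i.map d ≫ g) hg' = i.map d ≫ t u g hg := by
    intro v u d g hg hg'
    obtain ⟨V, f, hf, hfg⟩ := id hg
    have := htb u g hg f hfg
    obtain rfl : 𝒳.p.obj (i.obj u) = V := IsHomLift.domain_eq 𝒳.p f g
    have h2 : 𝒳.p.IsHomLift (𝒳.p.map (i.map d) ≫ f) (i.map d ≫ g) := inferInstance
    have := htb v (i.map d ≫ g) hg' (𝒳.p.map (i.map d) ≫ f) h2
    exact IsStronglyCartesian.ext 𝒳.p h c (𝒳.p.map (i.map d) ≫ f) (by rw [htc, assoc, htc, hnat])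
  have hon : ∀ (k : (Stk.sieveCat R).obj) {z : 𝒳.obj} (a : z ⟶ G.obj k.obj), OnR R (a ≫ κ k.obj) := fun k z a =>
    OnR.comp ⟨_, k.obj.hom, k.property, hκ k.obj⟩ a
  -- the components
  have hχ : ∀ k : (Stk.sieveCat R).obj, ∃ χ : G.obj k.obj ⟶ ξ'', 𝒳.p.IsHomLift k.obj.hom χ ∧
      ∀ (v : 𝒰.obj) (a : i.obj v ⟶ G.obj k.obj), a ≫ χ = t v (a ≫ κ k.obj) (hon k a) := by
    intro k
    obtain ⟨u, g, hg⟩ := hlift k.obj.hom k.property
    have := hκ k.obj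
    obtain ⟨a₀, ha₀, hag⟩ := Groth.L09.Gerb.connect hX.1 k.obj.hom g (κ k.obj)
    have hgR : OnR R g := ⟨_, k.obj.hom, k.property, hg⟩
    have := htb u g hgR k.obj.hom hg
    have hai : 𝒳.p.IsHomLift (𝟙 k.obj.left) a₀.inv := IsHomLift.lift_id_inv 𝒳.p k.obj.left a₀
    refine ⟨a₀.inv ≫ t u g hgR, IsHomLift.comp_lift_id_left' 𝒳.p k.obj.left a₀.inv k.obj.hom (t u g hgR), fun v a => ?_⟩
    obtain ⟨d, hd⟩ := i.toFunctor.map_surjective (a ≫ a₀.inv)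
    have e : a ≫ κ k.obj = i.map d ≫ g := by
      show _ = i.toFunctor.map d ≫ g
      rw [hd, ← hag, assoc, Iso.inv_hom_id_assoc]
    have h3 : t v (a ≫ κ k.obj) (hon k a) = t v (i.map d ≫ g) (OnR.comp hgR _) := by congr 1
    rw [h3, htn d g hgR]
    show a ≫ a₀.inv ≫ _ = i.toFunctor.map d ≫ _
    rw [hd, assoc]
  choose χ hχb hχ using hχ
  let app : ∀ k : (Stk.sieveCat R).obj, G.obj k.obj ⟶ G'.obj k.obj := fun k =>
    have := hκ' k.obj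
    have := Groth.L09.Fib.stronglyCartesian_of_isFibGrpd 𝒳.p hX.1 k.obj.hom (κ' k.obj)
    have := hχb k
    IsCartesian.map 𝒳.p k.obj.hom (κ' k.obj) (χ k)
  have happ : ∀ k, app k ≫ κ' k.obj = χ k := fun k =>
    have := hκ' k.obj
    have := Groth.L09.Fib.stronglyCartesian_of_isFibGrpd 𝒳.p hX.1 k.obj.hom (κ' k.obj)
    have := hχb k
    IsCartesian.fac 𝒳.p k.obj.hom (κ' k.obj) (χ k)
  have happl : ∀ k, 𝒳.p.IsHomLift (𝟙 k.obj.left) (app k) := fun k =>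
    have := hκ' k.obj
    have := Groth.L09.Fib.stronglyCartesian_of_isFibGrpd 𝒳.p hX.1 k.obj.hom (κ' k.obj)
    have := hχb k
    IsCartesian.map_isHomLift 𝒳.p k.obj.hom (κ' k.obj) (χ k)
  let β : (Stk.resSieve R 𝒳).obj G ⟶ (Stk.resSieve R 𝒳).obj G' :=
    { app := app
      naturality := fun k l n => by
        show G.map n.hom ≫ app l = app k ≫ G'.map n.hom
        have := hκ' l.obj
        have := Groth.L09.Fib.stronglyCartesian_of_isFibGrpd 𝒳.p hX.1 l.obj.hom (κ' l.obj)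
        have := happl k
        have := happl l
        have : 𝒳.p.IsHomLift n.hom.left (G.map n.hom) :=
          (BasedFunctor.isHomLift_iff G n.hom.left n.hom).2 (IsHomLift.map (FibCat.overCat T).p n.hom)
        have : 𝒳.p.IsHomLift n.hom.left (G'.map n.hom) :=
          (BasedFunctor.isHomLift_iff G' n.hom.left n.hom).2 (IsHomLift.map (FibCat.overCat T).p n.hom)
        have l1 : 𝒳.p.IsHomLift n.hom.left (G.map n.hom ≫ app l) :=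
          IsHomLift.comp_lift_id_right' 𝒳.p n.hom.left (G.map n.hom) l.obj.left (app l)
        have l2 : 𝒳.p.IsHomLift n.hom.left (app k ≫ G'.map n.hom) :=
          IsHomLift.comp_lift_id_left' 𝒳.p k.obj.left (app k) n.hom.left (G'.map n.hom)
        refine IsStronglyCartesian.ext 𝒳.p l.obj.hom (κ' l.obj) n.hom.left ?_
        rw [assoc, happ, assoc, hκn', happ]
        obtain ⟨u, g, hg⟩ := hlift k.obj.hom k.property
        have := hκ k.obj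
        obtain ⟨a₀, -, hag⟩ := Groth.L09.Gerb.connect hX.1 k.obj.hom g (κ k.obj)
        rw [← cancel_epi a₀.hom, ← assoc, hχ, hχ]
        congr 1
        rw [assoc, hκn]
      isHomLift' := happl }
  have : (Stk.resSieve R 𝒳).IsEquivalence := hX.2 R hR
  obtain ⟨α, hα⟩ := (Stk.resSieve R 𝒳).map_surjective β
  let id₀ : Over T := Over.mk (𝟙 T)
  have hαl : 𝒳.p.IsHomLift (𝟙 T) (α.toNatTrans.app id₀) := α.isHomLift' id₀
  have hexi : 𝒳.p.IsHomLift (𝟙 T) ex.inv.1 := ex.inv.2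
  let m₁ : ξ ⟶ ξ'' := ex.inv.1 ≫ α.toNatTrans.app id₀ ≫ ex'.hom.1
  have hm₁ : 𝒳.p.IsHomLift (𝟙 T) m₁ := by
    have := IsHomLift.comp_lift_id_right' 𝒳.p (𝟙 T) (α.toNatTrans.app id₀) T ex'.hom.1
    exact IsHomLift.comp_lift_id_left' 𝒳.p T ex.inv.1 (𝟙 T) (α.toNatTrans.app id₀ ≫ ex'.hom.1)
  refine ⟨m₁ ≫ c, IsHomLift.comp_lift_id_left' 𝒳.p T m₁ h c, fun u g hg => ?_⟩
  obtain ⟨V, f, hf, hfg⟩ := id hg
  let k : (Stk.sieveCat R).obj := ⟨Over.mk f, hf⟩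
  have : 𝒳.p.IsHomLift f g := hfg
  have : 𝒳.p.IsHomLift f (κ k.obj) := hκ k.obj
  obtain ⟨a, -, hag⟩ := Groth.L09.Gerb.connect hX.1 f g (κ k.obj)
  have h4 : κ k.obj ≫ m₁ = χ k := by
    rw [← happ k]
    have e1 : app k = α.toNatTrans.app k.obj := (congrArg (fun z => z.toNatTrans.app k) hα).symm
    have e2 : ex.hom.1 ≫ ex.inv.1 = 𝟙 _ := congrArg Subtype.val ex.hom_inv_id
    show (G.map _ ≫ ex.hom.1) ≫ ex.inv.1 ≫ α.toNatTrans.app id₀ ≫ ex'.hom.1 = app k ≫ G'.map _ ≫ ex'.hom.1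
    rw [assoc, reassoc_of% e2, e1, ← assoc, ← assoc]
    exact congrArg (· ≫ ex'.hom.1) (α.toNatTrans.naturality (Groth.L09.Fib.toTerm k.obj))
  calc g ≫ m₁ ≫ c = (a.hom ≫ κ k.obj ≫ m₁) ≫ c :=
        (Category.assoc _ _ _).symm.trans (congrArg (· ≫ c) ((congrArg (· ≫ m₁) hag.symm).trans (Category.assoc _ _ _)))
    _ = t u g hg ≫ c := by rw [h4, hχ]; congr 2
    _ = τ u g hg := htc u g hg

end Groth.L11.IsoNat.Bald
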