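import Groth.Agent.L11.IsoNat.Bald.Glue

/-!
Two stacks receiving one groupoid fully faithfully and locally surjectively are equivalent.
-/

set_option autoImplicit false
set_option backward.isDefEq.respectTransparency false
set_option backward.isDefEq.respectTransparency.types false

universe v₄ u₄ v₃ u₃ v₂ u₂ v u

open CategoryTheory Category Functor

noncomputable section

namespace Groth.L11.IsoNat.Bald

variable {C : Type u} [Category.{v} C] (J : GrothendieckTopology C) {𝒰 : BasedCategory.{v₄, u₄} C}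
  {𝒳 : BasedCategory.{v₂, u₂} C} {𝒴 : BasedCategory.{v₃, u₃} C}

/-- A functor locally surjective on objects. -/
def LocSurj (i : 𝒰 ⥤ᵇ 𝒳) : Prop :=
  ∀ (ξ : 𝒳.obj) {T : C}, 𝒳.p.obj ξ = T → ∃ R ∈ J T, ∀ ⦃V : C⦄ (f : V ⟶ T), R f → LiftsIn i ξ f

variable {J}

/-- The sieve of arrows with a lift. -/
def liftSieve (hU : FibCat.IsFibGrpd 𝒰.p) (i : 𝒰 ⥤ᵇ 𝒳) (ξ : 𝒳.obj) (T : C) : Sieve T where
  arrows _ f := LiftsIn i ξ f
  downward_closed := by
    rintro V W f ⟨u, g, hg⟩ k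
    have hu : 𝒰.p.obj u = V := (i.w_obj u).symm.trans (IsHomLift.domain_eq 𝒳.p f g)
    obtain ⟨u', d, hd⟩ := Groth.L09.Gerb.exists_pull hU u hu k
    have : 𝒳.p.IsHomLift k (i.map d) := (BasedFunctor.isHomLift_iff i k d).2 hd
    exact ⟨u', i.map d ≫ g, inferInstance⟩

theorem liftSieve_mem (hU : FibCat.IsFibGrpd 𝒰.p) {i : 𝒰 ⥤ᵇ 𝒳} (hi : LocSurj J i) (ξ : 𝒳.obj) {T : C}
    (hξ : 𝒳.p.obj ξ = T) : liftSieve hU i ξ T ∈ J T := by
  obtain ⟨R, hR, h⟩ := hi ξ hξ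
  exact J.superset_covering (fun V f hf => h f hf) hR

/-- A factorisation of two lifts in the source. -/
theorem exists_pre (hX : FibCat.IsFibGrpd 𝒳.p) (i : 𝒰 ⥤ᵇ 𝒳) [i.toFunctor.Full] {v u : 𝒰.obj} {ξ : 𝒳.obj}
    {W V T : C} (r : W ⟶ V) (f : V ⟶ T) (g' : i.obj v ⟶ ξ) (g : i.obj u ⟶ ξ) [𝒳.p.IsHomLift f g]
    [𝒳.p.IsHomLift (r ≫ f) g'] : ∃ e : v ⟶ u, i.map e ≫ g = g' ∧ 𝒰.p.IsHomLift r e := by
  have := Groth.L09.Fib.stronglyCartesian_of_isFibGrpd 𝒳.p hX f g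
  let c := IsStronglyCartesian.map 𝒳.p f g (g := r) (f' := r ≫ f) rfl g'
  obtain ⟨e, he⟩ := i.toFunctor.map_surjective c
  refine ⟨e, ?_, (BasedFunctor.isHomLift_iff i r e).1 ?_⟩
  · show i.toFunctor.map e ≫ g = g'
    rw [he]; exact IsStronglyCartesian.fac _ _ _ _ _
  · show 𝒳.p.IsHomLift r (i.toFunctor.map e)
    rw [he]; infer_instance

theorem pre_unique (hX : FibCat.IsFibGrpd 𝒳.p) (i : 𝒰 ⥤ᵇ 𝒳) [i.toFunctor.Faithful] {v u : 𝒰.obj} {ξ : 𝒳.obj}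
    {W V T : C} (r : W ⟶ V) (f : V ⟶ T) (g : i.obj u ⟶ ξ) [𝒳.p.IsHomLift f g] (e e' : v ⟶ u)
    [𝒰.p.IsHomLift r e] [𝒰.p.IsHomLift r e'] (h : i.map e ≫ g = i.map e' ≫ g) : e = e' := by
  have := Groth.L09.Fib.stronglyCartesian_of_isFibGrpd 𝒳.p hX f g
  have : 𝒳.p.IsHomLift r (i.map e) := (BasedFunctor.isHomLift_iff i r e).2 inferInstance
  have : 𝒳.p.IsHomLift r (i.map e') := (BasedFunctor.isHomLift_iff i r e').2 inferInstance
  exact i.toFunctor.map_injective (IsStronglyCartesian.ext 𝒳.p f g r h)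

variable (i : 𝒰 ⥤ᵇ 𝒳) (j : 𝒰 ⥤ᵇ 𝒴)

/-- An object of `𝒳` and an object of `𝒴` with compatible lifts. -/
structure GObj where
  /-- the first object -/
  ξ : 𝒳.obj
  /-- the second object -/
  η : 𝒴.obj
  hb : 𝒴.p.obj η = 𝒳.p.obj ξ
  /-- the map of lifts -/
  τ : ∀ u : 𝒰.obj, (i.obj u ⟶ ξ) → (j.obj u ⟶ η)
  base : ∀ (u : 𝒰.obj) (g : i.obj u ⟶ ξ) {V T : C} (f : V ⟶ T), 𝒳.p.IsHomLift f g → 𝒴.p.IsHomLift f (τ u g)
  nat : ∀ {v u : 𝒰.obj} (d : v ⟶ u) (g : i.obj u ⟶ ξ), τ v (i.map d ≫ g) = j.map d ≫ τ u g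

variable {i j}

/-- Compatible pairs of morphisms. -/
@[ext]
structure GHom (A B : GObj i j) where
  /-- the first morphism -/
  m : A.ξ ⟶ B.ξ
  /-- the second morphism -/
  n : A.η ⟶ B.η
  lift : 𝒴.p.IsHomLift (𝒳.p.map m) n
  comm : ∀ (u : 𝒰.obj) (g : i.obj u ⟶ A.ξ), B.τ u (g ≫ m) = A.τ u g ≫ n

instance : Category (GObj i j) where
  Hom := GHom
  id A := ⟨𝟙 _, 𝟙 _, by rw [CategoryTheory.Functor.map_id]; exact IsHomLift.id A.hb, fun u g => by rw [comp_id, comp_id]⟩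
  comp {A B D} p q := ⟨p.m ≫ q.m, p.n ≫ q.n, by
    have := p.lift
    have := q.lift
    rw [CategoryTheory.Functor.map_comp]
    infer_instance, fun u g => by rw [← assoc, q.comm, p.comm, assoc]⟩
  id_comp _ := GHom.ext (id_comp _) (id_comp _)
  comp_id _ := GHom.ext (comp_id _) (comp_id _)
  assoc _ _ _ := GHom.ext (assoc _ _ _) (assoc _ _ _)

/-- The first projection as a functor. -/
def pr1F : GObj i j ⥤ 𝒳.obj where
  obj A := A.ξ
  map p := p.m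

variable (i j)

/-- The category of compatible pairs over the base. -/
abbrev GCat : BasedCategory.{max v₂ v₃, max u₄ u₂ u₃ v₂ v₃} C where
  obj := GObj i j
  p := pr1F ⋙ 𝒳.p

/-- The first projection. -/
def pr1 : GCat i j ⥤ᵇ 𝒳 where
  toFunctor := pr1F
  w := rfl

/-- The second projection. -/
def pr2 : GCat i j ⥤ᵇ 𝒴 where
  toFunctor :=
    { obj := fun A => A.η
      map := fun p => p.n }
  w := CategoryTheory.Functor.ext (fun A => A.hb) (fun A B p => by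
    have := p.lift
    exact IsHomLift.fac' 𝒴.p (𝒳.p.map p.m) p.n)

variable {i j}

theorem GObj.exists_preimage (A : GObj i j) (hY : FibCat.IsFibGrpd 𝒴.p) [j.toFunctor.Full] {u : 𝒰.obj}
    (h : j.obj u ⟶ A.η) {V T : C} (f : V ⟶ T) [𝒴.p.IsHomLift f h] (hf : LiftsIn i A.ξ f) :
    ∃ g : i.obj u ⟶ A.ξ, 𝒳.p.IsHomLift f g ∧ A.τ u g = h := by
  obtain ⟨u₀, g₀, hg₀⟩ := hf
  have := A.base u₀ g₀ f hg₀
  have : 𝒴.p.IsHomLift (𝟙 V ≫ f) h := by rw [id_comp]; infer_instance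
  obtain ⟨e, he, hel⟩ := exists_pre hY j (𝟙 V) f h (A.τ u₀ g₀)
  have : 𝒳.p.IsHomLift (𝟙 V) (i.map e) := (BasedFunctor.isHomLift_iff i (𝟙 V) e).2 hel
  refine ⟨i.map e ≫ g₀, ?_, by rw [A.nat, he]⟩
  exact IsHomLift.comp_lift_id_left' 𝒳.p V (i.map e) f g₀

theorem GObj.τ_injective (A : GObj i j) (hX : FibCat.IsFibGrpd 𝒳.p) (hY : FibCat.IsFibGrpd 𝒴.p)
    [i.toFunctor.Full] [j.toFunctor.Faithful] {u : 𝒰.obj} {g g' : i.obj u ⟶ A.ξ} (h : A.τ u g = A.τ u g') :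
    g = g' := by
  have h1 := A.base u g (𝒳.p.map g) inferInstance
  have h2 := A.base u g' (𝒳.p.map g') inferInstance
  rw [← h] at h2
  have hb : 𝒳.p.map g = 𝒳.p.map g' := base_unique _ _ (A.τ u g)
  have : 𝒳.p.IsHomLift (𝟙 (𝒳.p.obj (i.obj u)) ≫ 𝒳.p.map g) g' := by
    rw [id_comp, hb]; infer_instance
  obtain ⟨e, he, hel⟩ := exists_pre hX i (𝟙 _) (𝒳.p.map g) g' g
  have hid : 𝒰.p.IsHomLift (𝟙 (𝒳.p.obj (i.obj u))) (𝟙 u) := IsHomLift.id (i.w_obj u).symm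
  have key : j.map (𝟙 u) ≫ A.τ u g = j.map e ≫ A.τ u g := by
    rw [← A.nat, ← A.nat, he, i.toFunctor.map_id, id_comp, h]
  obtain rfl := pre_unique hY j (𝟙 (𝒳.p.obj (i.obj u))) (𝒳.p.map g) (A.τ u g) (𝟙 u) e key
  rw [← he, i.toFunctor.map_id, id_comp]

variable (hU : FibCat.IsFibGrpd 𝒰.p)
include hU

theorem GObj.image_cover (A : GObj i j) (hi : LocSurj J i) :
    ∃ R ∈ J (𝒳.p.obj A.ξ), ∀ ⦃V : C⦄ (f : V ⟶ 𝒳.p.obj A.ξ), R f →
      ∃ (u : 𝒰.obj) (g : i.obj u ⟶ A.ξ), 𝒳.p.IsHomLift f g ∧ 𝒴.p.IsHomLift f (A.τ u g) :=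
  ⟨_, liftSieve_mem hU hi A.ξ rfl, fun _ f ⟨u, g, hg⟩ => ⟨u, g, hg, A.base u g f hg⟩⟩

theorem full_pr1 (hX : Stk.IsStack J 𝒳) (hY : Stk.IsStack J 𝒴) (hi : LocSurj J i) [i.toFunctor.Full]
    [j.toFunctor.Full] [j.toFunctor.Faithful] : (pr1 i j).toFunctor.Full := by
  refine ⟨fun {A B} m => ?_⟩
  let T := 𝒳.p.obj A.ξ
  have hl : ∀ ⦃V : C⦄ (f : V ⟶ T), liftSieve hU i A.ξ T f → LiftsIn j A.η f := fun V f ⟨u, g, hg⟩ =>
    ⟨u, A.τ u g, A.base u g f hg⟩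
  have hpre : ∀ (u : 𝒰.obj) (h : j.obj u ⟶ A.η), OnR (liftSieve hU i A.ξ T) h →
      ∃ g : i.obj u ⟶ A.ξ, A.τ u g = h := fun u h ⟨V, f, hf, hh⟩ => by
    obtain ⟨g, -, hg⟩ := A.exists_preimage hY.1 h f hf
    exact ⟨g, hg⟩
  choose pre hprec using hpre
  obtain ⟨n, hn, hnc⟩ := exists_glue hY j (liftSieve_mem hU hi A.ξ rfl) A.hb B.hb (𝒳.p.map m) hl
    (fun u h hh => B.τ u (pre u h hh ≫ m)) (fun u h hh V f hf => by
      obtain ⟨g, hg, hgh⟩ := A.exists_preimage hY.1 h f (by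
        obtain ⟨V', f', hf', hh'⟩ := hh
        obtain rfl : V = V' := (IsHomLift.domain_eq 𝒴.p f h).symm.trans (IsHomLift.domain_eq 𝒴.p f' h)
        obtain rfl : f = f' := base_unique (φ := h) f f'
        exact hf')
      obtain rfl : pre u h hh = g := A.τ_injective hX.1 hY.1 ((hprec u h hh).trans hgh.symm)
      exact B.base u _ _ inferInstance)
    (fun {v u} d h hh hh' => by
      have : pre v (j.map d ≫ h) hh' = i.map d ≫ pre u h hh := A.τ_injective hX.1 hY.1 (by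
        rw [hprec, A.nat, hprec])
      rw [this, assoc, B.nat])
  refine ⟨⟨m, n, hn, fun u g => ?_⟩, rfl⟩
  have hg : OnR (liftSieve hU i A.ξ T) (A.τ u g) :=
    ⟨_, 𝒳.p.map g, ⟨u, g, inferInstance⟩, A.base u g _ inferInstance⟩
  rw [hnc u _ hg, A.τ_injective hX.1 hY.1 (hprec u _ hg)]

theorem faithful_pr1 (hY : Stk.IsStack J 𝒴) (hi : LocSurj J i) : (pr1 i j).toFunctor.Faithful := by
  refine ⟨fun {A B} {p q} h => GHom.ext h ?_⟩
  have h' : p.m = q.m := h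
  obtain ⟨R, hR, hR'⟩ := A.image_cover hU hi
  have := p.lift
  have : 𝒴.p.IsHomLift (𝒳.p.map p.m) q.n := h' ▸ q.lift
  refine eq_of_cover hY hR (𝒳.p.map p.m) p.n q.n fun V f hf => ?_
  obtain ⟨u, g, -, hg⟩ := hR' f hf
  exact ⟨_, A.τ u g, hg, by rw [← p.comm, ← q.comm, h']⟩

theorem faithful_pr2 (hX : Stk.IsStack J 𝒳) (hY : FibCat.IsFibGrpd 𝒴.p) (hi : LocSurj J i)
    [i.toFunctor.Full] [j.toFunctor.Faithful] : (pr2 i j).toFunctor.Faithful := by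
  refine ⟨fun {A B} {p q} h => ?_⟩
  have h' : p.n = q.n := h
  refine GHom.ext ?_ h'
  have := p.lift
  have : 𝒴.p.IsHomLift (𝒳.p.map q.m) p.n := h' ▸ q.lift
  have hb : 𝒳.p.map p.m = 𝒳.p.map q.m := base_unique _ _ p.n
  have : 𝒳.p.IsHomLift (𝒳.p.map p.m) q.m := by rw [hb]; infer_instance
  obtain ⟨R, hR, hR'⟩ := A.image_cover hU hi
  refine eq_of_cover hX hR (𝒳.p.map p.m) p.m q.m fun V f hf => ?_
  obtain ⟨u, g, hg, -⟩ := hR' f hf
  exact ⟨_, g, hg, B.τ_injective hX.1 hY (by rw [p.comm, q.comm, h'])⟩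

theorem full_pr2 (hX : Stk.IsStack J 𝒳) (hY : Stk.IsStack J 𝒴) (hi : LocSurj J i)
    [i.toFunctor.Full] [j.toFunctor.Full] [j.toFunctor.Faithful] : (pr2 i j).toFunctor.Full := by
  refine ⟨fun {A B} n => ?_⟩
  let T := 𝒳.p.obj A.ξ
  let T' := 𝒳.p.obj B.ξ
  let h : T ⟶ T' := eqToHom A.hb.symm ≫ 𝒴.p.map n ≫ eqToHom B.hb
  have hn : 𝒴.p.IsHomLift h n := IsHomLift.of_fac' 𝒴.p h n A.hb B.hb (by simp [h])
  let R : Sieve T := liftSieve hU i A.ξ T ⊓ (liftSieve hU i B.ξ T').pullback h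
  have hR : R ∈ J T := J.intersection_covering (liftSieve_mem hU hi A.ξ rfl)
    (J.pullback_stable h (liftSieve_mem hU hi B.ξ rfl))
  have hsol : ∀ (u : 𝒰.obj) (g : i.obj u ⟶ A.ξ), OnR R g → ∃ g' : i.obj u ⟶ B.ξ, B.τ u g' = A.τ u g ≫ n := by
    rintro u g ⟨V, f, ⟨-, hf⟩, hg⟩
    have := A.base u g f hg
    have : 𝒴.p.IsHomLift (f ≫ h) (A.τ u g ≫ n) := inferInstance
    obtain ⟨g', -, hg'⟩ := B.exists_preimage hY.1 (A.τ u g ≫ n) (f ≫ h) hf
    exact ⟨g', hg'⟩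
  choose sol hsolc using hsol
  obtain ⟨m, hm, hmc⟩ := exists_glue hX i hR (ξ := A.ξ) rfl (ξ' := B.ξ) rfl h (fun V f hf => hf.1) sol
    (fun u g hg V f hf => by
      obtain ⟨V', f', hf', hfg⟩ := id hg
      obtain rfl : V = V' := (IsHomLift.domain_eq 𝒳.p f g).symm.trans (IsHomLift.domain_eq 𝒳.p f' g)
      obtain rfl : f = f' := base_unique (φ := g) f f'
      have := A.base u g f hf
      have : 𝒴.p.IsHomLift (f ≫ h) (A.τ u g ≫ n) := inferInstance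
      obtain ⟨g', hg', hgc⟩ := B.exists_preimage hY.1 (A.τ u g ≫ n) (f ≫ h) hf'.2
      rw [B.τ_injective hX.1 hY.1 ((hsolc u g hg).trans hgc.symm)]
      exact hg')
    (fun {v u} d g hg hg' => B.τ_injective hX.1 hY.1 (by rw [hsolc, B.nat, hsolc, A.nat, assoc]))
  have hmm : 𝒴.p.IsHomLift (𝒳.p.map m) n := by
    rw [← IsHomLift.eq_of_isHomLift 𝒳.p h m]
    exact hn
  refine ⟨⟨m, n, hmm, fun u g => ?_⟩, rfl⟩
  let f : 𝒳.p.obj (i.obj u) ⟶ T := 𝒳.p.map g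
  have := A.base u g f inferInstance
  have : 𝒴.p.IsHomLift (f ≫ h) (A.τ u g ≫ n) := inferInstance
  have : 𝒳.p.IsHomLift (f ≫ h) (g ≫ m) := inferInstance
  have := B.base u (g ≫ m) (f ≫ h) inferInstance
  refine eq_of_cover hY (J.pullback_stable f hR) (f ≫ h) (B.τ u (g ≫ m)) (A.τ u g ≫ n) fun W r hr => ?_
  obtain ⟨v, d, hd⟩ := Groth.L09.Gerb.exists_pull hU u (i.w_obj u).symm r
  have : 𝒳.p.IsHomLift r (i.map d) := (BasedFunctor.isHomLift_iff i r d).2 hd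
  refine ⟨_, j.map d, (BasedFunctor.isHomLift_iff j r d).2 hd, ?_⟩
  have hg' : OnR R (i.map d ≫ g) := ⟨W, r ≫ f, hr, inferInstance⟩
  rw [← B.nat, ← assoc (i.map d), hmc v _ hg', hsolc, A.nat, assoc]

theorem exists_gObj (hX : FibCat.IsFibGrpd 𝒳.p) (hY : Stk.IsStack J 𝒴) (hi : LocSurj J i)
    [i.toFunctor.Full] [i.toFunctor.Faithful] (ξ : 𝒳.obj) : ∃ A : GObj i j, A.ξ = ξ := by
  let T := 𝒳.p.obj ξ
  let R := liftSieve hU i ξ T
  have hR : R ∈ J T := liftSieve_mem hU hi ξ rfl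
  have hk : ∀ k : (Stk.sieveCat R).obj, ∃ (u : 𝒰.obj) (g : i.obj u ⟶ ξ), 𝒳.p.IsHomLift k.obj.hom g := fun k =>
    k.property
  choose w gk hgk using hk
  have hbase : ∀ k, 𝒰.p.obj (w k) = k.obj.left := fun k =>
    (i.w_obj (w k)).symm.trans (@IsHomLift.domain_eq _ _ _ _ 𝒳.p _ _ _ _ k.obj.hom (gk k) (hgk k))
  have he : ∀ {k l : (Stk.sieveCat R).obj} (n : k ⟶ l), ∃ e : w k ⟶ w l, i.map e ≫ gk l = gk k ∧
      𝒰.p.IsHomLift n.hom.left e := fun {k l} n => by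
    have := hgk l
    have : 𝒳.p.IsHomLift (n.hom.left ≫ l.obj.hom) (gk k) := by rw [Over.w n.hom]; exact hgk k
    exact exists_pre hX i n.hom.left l.obj.hom (gk k) (gk l)
  choose en henc henl using @he
  let Φ : Stk.sieveCat R ⥤ᵇ 𝒴 :=
    { toFunctor :=
        { obj := fun k => j.obj (w k)
          map := fun {k l} n => j.map (en n)
          map_id := fun k => by
            have := hgk k
            have := henl (𝟙 k)
            have : 𝒰.p.IsHomLift (𝟙 k : k ⟶ k).hom.left (𝟙 (w k)) := IsHomLift.id (hbase k)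
            have e : en (𝟙 k) = 𝟙 (w k) := pre_unique hX i (𝟙 k : k ⟶ k).hom.left k.obj.hom (gk k) _ _ (by
              rw [henc, i.toFunctor.map_id, id_comp])
            rw [e]; exact j.toFunctor.map_id _
          map_comp := fun {k l o} n p => by
            have := hgk o
            have := henl (n ≫ p)
            have := henl n
            have := henl p
            have : 𝒰.p.IsHomLift (n ≫ p).hom.left (en n ≫ en p) :=
              inferInstanceAs (𝒰.p.IsHomLift (n.hom.left ≫ p.hom.left) (en n ≫ en p))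
            have e : en (n ≫ p) = en n ≫ en p := pre_unique hX i (n ≫ p).hom.left o.obj.hom (gk o) _ _ (by
              rw [henc, i.toFunctor.map_comp, assoc, henc, henc])
            rw [e]; exact j.toFunctor.map_comp _ _ }
      w := CategoryTheory.Functor.ext (fun k => (j.w_obj (w k)).trans (hbase k)) (fun k l n => by
        have h1 : 𝒴.p.IsHomLift n.hom.left (j.map (en n)) := (BasedFunctor.isHomLift_iff j _ _).2 (henl n)
        exact IsHomLift.fac' 𝒴.p n.hom.left (j.map (en n))) }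
  have : (Stk.resSieve R 𝒴).IsEquivalence := hY.2 R hR
  let H : FibCat.overCat T ⥤ᵇ 𝒴 := (Stk.resSieve R 𝒴).objPreimage Φ
  let ι : (Stk.resSieve R 𝒴).obj H ≅ Φ := (Stk.resSieve R 𝒴).objObjPreimageIso Φ
  let id₀ : Over T := Over.mk (𝟙 T)
  let η : 𝒴.obj := H.obj id₀
  let χ : ∀ k : (Stk.sieveCat R).obj, j.obj (w k) ⟶ η := fun k =>
    ι.inv.toNatTrans.app k ≫ H.map (Groth.L09.Fib.toTerm k.obj)
  have hχl : ∀ k, 𝒴.p.IsHomLift k.obj.hom (χ k) := fun k => by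
    have : 𝒴.p.IsHomLift (𝟙 k.obj.left) (ι.inv.toNatTrans.app k) := ι.inv.isHomLift' k
    have : 𝒴.p.IsHomLift k.obj.hom (H.map (Groth.L09.Fib.toTerm k.obj)) :=
      (BasedFunctor.isHomLift_iff H _ _).2 (Groth.L09.Fib.toTerm_lift k.obj)
    exact IsHomLift.comp_lift_id_left' 𝒴.p k.obj.left _ k.obj.hom _
  have hχn : ∀ {k l : (Stk.sieveCat R).obj} (n : k ⟶ l), j.map (en n) ≫ χ l = χ k := fun {k l} n => by
    show Φ.map n ≫ ι.inv.toNatTrans.app l ≫ H.map _ = ι.inv.toNatTrans.app k ≫ H.map _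
    rw [← assoc, show Φ.map n ≫ ι.inv.toNatTrans.app l = ι.inv.toNatTrans.app k ≫ H.map n.hom from
      ι.inv.toNatTrans.naturality n, assoc]
    exact congrArg (ι.inv.toNatTrans.app k ≫ ·) ((H.toFunctor.map_comp _ _).symm.trans
      (congrArg (fun t => H.map t) (Over.OverMorphism.ext (Over.w n.hom))))
  -- the standard arrow of a lift
  let K : ∀ (u : 𝒰.obj) (g : i.obj u ⟶ ξ), (Stk.sieveCat R).obj := fun u g =>
    ⟨Over.mk (𝒳.p.map g), ⟨u, g, IsHomLift.map 𝒳.p g⟩⟩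
  have hK : ∀ (u : 𝒰.obj) (g : i.obj u ⟶ ξ), ∃ e : u ⟶ w (K u g), i.map e ≫ gk (K u g) = g ∧
      𝒰.p.IsHomLift (𝟙 (𝒳.p.obj (i.obj u))) e := fun u g => by
    have := hgk (K u g)
    have : 𝒳.p.IsHomLift (𝟙 (𝒳.p.obj (i.obj u)) ≫ (K u g).obj.hom) g := by
      rw [id_comp]; exact IsHomLift.map 𝒳.p g
    exact exists_pre hX i (𝟙 (𝒳.p.obj (i.obj u))) (K u g).obj.hom g (gk (K u g))
  choose e₀ he₀c he₀l using hK
  let τ : ∀ (u : 𝒰.obj), (i.obj u ⟶ ξ) → (j.obj u ⟶ η) := fun u g => j.map (e₀ u g) ≫ χ (K u g)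
  have key : ∀ (u : 𝒰.obj) (g : i.obj u ⟶ ξ) (k : (Stk.sieveCat R).obj) (d : u ⟶ w k),
      i.map d ≫ gk k = g → τ u g = j.map d ≫ χ k := fun u g k d hd => by
    let r : 𝒳.p.obj (i.obj u) ⟶ k.obj.left := eqToHom (i.w_obj u) ≫ 𝒰.p.map d ≫ eqToHom (hbase k)
    have hdl : 𝒰.p.IsHomLift r d := IsHomLift.of_fac' 𝒰.p r d (i.w_obj u).symm (hbase k) (by simp [r])
    have : 𝒳.p.IsHomLift r (i.map d) := (BasedFunctor.isHomLift_iff i r d).2 hdl
    have := hgk k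
    have hgl : 𝒳.p.IsHomLift (r ≫ k.obj.hom) g := by rw [← hd]; infer_instance
    have hr : r ≫ k.obj.hom = (K u g).obj.hom := base_unique (r ≫ k.obj.hom) (𝒳.p.map g) g
    let n : K u g ⟶ k := ObjectProperty.homMk (Over.homMk r hr)
    have := he₀l u g
    have : 𝒰.p.IsHomLift r (en n) := henl n
    have : 𝒰.p.IsHomLift r (e₀ u g ≫ en n) :=
      IsHomLift.comp_lift_id_left' 𝒰.p (𝒳.p.obj (i.obj u)) (e₀ u g) r (en n)
    have e : e₀ u g ≫ en n = d := pre_unique hX i r k.obj.hom (gk k) _ _ (by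
      rw [i.toFunctor.map_comp, assoc, henc, he₀c, hd])
    show j.map (e₀ u g) ≫ χ (K u g) = _
    rw [← hχn n, ← assoc, ← j.toFunctor.map_comp, e]
  refine ⟨⟨ξ, η, H.w_obj id₀, τ, fun u g V T' f hf => ?_, fun {v u} d g => ?_⟩, rfl⟩
  · obtain rfl : 𝒳.p.obj (i.obj u) = V := IsHomLift.domain_eq 𝒳.p f g
    obtain rfl : T = T' := IsHomLift.codomain_eq 𝒳.p f g
    have hf' : 𝒳.p.map g = f := (IsHomLift.eq_of_isHomLift 𝒳.p f g).symm
    have : 𝒴.p.IsHomLift (𝟙 (𝒳.p.obj (i.obj u))) (j.map (e₀ u g)) :=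
      (BasedFunctor.isHomLift_iff j _ _).2 (he₀l u g)
    have : 𝒴.p.IsHomLift f (χ (K u g)) := hf' ▸ hχl (K u g)
    exact IsHomLift.comp_lift_id_left' 𝒴.p (𝒳.p.obj (i.obj u)) (j.map (e₀ u g)) f (χ (K u g))
  · rw [key v (i.map d ≫ g) (K u g) (d ≫ e₀ u g) (by rw [i.toFunctor.map_comp, assoc, he₀c]),
      j.toFunctor.map_comp, assoc]

/-- Two stacks receiving one groupoid fully faithfully and locally surjectively are equivalent. -/
theorem exists_equiv (hX : Stk.IsStack J 𝒳) (hY : Stk.IsStack J 𝒴) [i.toFunctor.Full] [i.toFunctor.Faithful]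
    [j.toFunctor.Full] [j.toFunctor.Faithful] (hi : LocSurj J i) (hj : LocSurj J j) :
    ∃ L : 𝒳 ⥤ᵇ 𝒴, FibCat.IsEquivOver L := by
  have := full_pr1 (j := j) hU hX hY hi
  have := faithful_pr1 (j := j) hU hY hi
  have := full_pr2 (j := j) hU hX hY hi
  have := faithful_pr2 (j := j) hU hX hY.1 hi
  have h1 : FibCat.IsEquivOver (pr1 i j) := Groth.L24.St.isEquivOver_of_overId _ fun ξ => by
    obtain ⟨A, rfl⟩ := exists_gObj (j := j) hU hX.1 hY hi ξ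
    exact ⟨A, Iso.refl _, Groth.L24.St.overId_id _⟩
  obtain ⟨Ψ, hΨ, ⟨e₁⟩, -⟩ := Groth.L24.St.exists_inverse h1
  obtain ⟨_, _⟩ := Groth.L24.St.eqv_fullFaithful hΨ
  let L := BasedFunctor.comp Ψ (pr2 i j)
  have : L.toFunctor.Full := inferInstanceAs (Ψ.toFunctor ⋙ (pr2 i j).toFunctor).Full
  have : L.toFunctor.Faithful := inferInstanceAs (Ψ.toFunctor ⋙ (pr2 i j).toFunctor).Faithful
  refine ⟨L, Groth.L09.Stk.isEquivOver_of_locally J hX hY L fun η => ?_⟩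
  obtain ⟨R, hR, hlift⟩ := hj η rfl
  refine ⟨R, hR, fun V f hf => ?_⟩
  obtain ⟨u, h, hh⟩ := hlift f hf
  have hpre : ∀ (v : 𝒰.obj) (g : i.obj v ⟶ i.obj u), ∃ d : v ⟶ u, i.map d = g := fun v g => i.toFunctor.map_surjective g
  choose d hd using hpre
  let A : GObj i j :=
    { ξ := i.obj u
      η := j.obj u
      hb := (j.w_obj u).trans (i.w_obj u).symm
      τ := fun v g => j.map (d v g)
      base := fun v g {V T} f hf => (BasedFunctor.isHomLift_iff j f (d v g)).2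
        ((BasedFunctor.isHomLift_iff i f (d v g)).1 (by rw [hd]; exact hf))
      nat := fun {w v} k g => by
        rw [show d w (i.map k ≫ g) = k ≫ d v g from i.toFunctor.map_injective (by
          rw [i.toFunctor.map_comp]; exact (hd _ _).trans (congrArg (i.map k ≫ ·) (hd v g)).symm)]
        exact j.toFunctor.map_comp _ _ }
  let a : L.obj (i.obj u) ≅ j.obj u := (pr2 i j).toFunctor.mapIso (Groth.L24.St.appIso e₁ A)
  have ha : Groth.L24.St.OverId a.hom :=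
    Groth.L24.St.OverId.map (pr2 i j) (Groth.L24.St.overId_app e₁.hom A)
  refine ⟨i.obj u, a.hom ≫ h, ?_⟩
  have : 𝒴.p.IsHomLift (𝟙 V) a.hom := ha.lift ((L.w_obj _).trans ((i.w_obj u).trans
    ((j.w_obj u).symm.trans (IsHomLift.domain_eq 𝒴.p f h))))
  exact IsHomLift.comp_lift_id_left' 𝒴.p V a.hom f h

end Groth.L11.IsoNat.Bald
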