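import Groth.Agent.L11.IsoNat.Bald.Corr
import Groth.Agent.L11.IsoNat.Bald.Univ

/-!
One groupoid mapping fully faithfully to two stacks with corresponding rigid charts.
-/

set_option autoImplicit false
set_option backward.isDefEq.respectTransparency false
set_option backward.isDefEq.respectTransparency.types false

universe u

open CategoryTheory CategoryTheory.Limits AlgebraicGeometry Groth.L24.St

noncomputable section

namespace Groth.L11.IsoNat.Bald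

variable {S : Scheme.{u}} {𝒳 𝒴 : AlgSt.Cat S} {U : Over S}
  (x : FibCat.overCat U ⥤ᵇ 𝒳) (y : FibCat.overCat U ⥤ᵇ 𝒴)

/-- The objects of the base with the morphisms of their images. -/
def chartGpd : AlgSt.Cat S where
  obj := InducedCategory 𝒳.obj x.obj
  p := inducedFunctor _ ⋙ 𝒳.p

/-- The inclusion of the groupoid of a chart. -/
def gpdIncl : chartGpd x ⥤ᵇ 𝒳 where
  toFunctor := inducedFunctor _
  w := rfl

instance : (gpdIncl x).toFunctor.Full := InducedCategory.full x.obj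
instance : (gpdIncl x).toFunctor.Faithful := InducedCategory.faithful x.obj

theorem chartGpd_isFibGrpd (h : FibCat.IsFibGrpd 𝒳.p) : FibCat.IsFibGrpd (chartGpd x).p := by
  let ι := gpdIncl x
  refine ⟨fun {b V} (f : V ⟶ 𝒳.p.obj (x.obj b)) => ?_, fun {a b} φ => ⟨fun {a'} g φ' hφ' => ?_⟩⟩
  · let k : Over.mk ((f ≫ eqToHom (x.w_obj b)) ≫ b.hom) ⟶ b := Over.homMk (f ≫ eqToHom (x.w_obj b)) rfl
    refine ⟨_, InducedCategory.homMk (x.map k), (BasedFunctor.isHomLift_iff ι f _).1 ?_⟩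
    show 𝒳.p.IsHomLift f (x.map k)
    have : 𝒳.p.IsHomLift (f ≫ eqToHom (x.w_obj b)) (x.map k) :=
      (BasedFunctor.isHomLift_iff x _ k).2 (IsHomLift.map (FibCat.overCat U).p k)
    refine IsHomLift.of_fac 𝒳.p f _ (x.w_obj _) rfl ?_
    have e := IsHomLift.fac' 𝒳.p (f ≫ eqToHom (x.w_obj b)) (x.map k)
    rw [e]
    simp
  · haveI := h.isStronglyCartesian φ.hom
    haveI : 𝒳.p.IsHomLift (g ≫ 𝒳.p.map φ.hom) φ'.hom := (BasedFunctor.isHomLift_iff ι _ φ').2 hφ'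
    obtain ⟨χ, ⟨hχ, hχ'⟩, hu⟩ := Functor.IsStronglyCartesian.universal_property 𝒳.p
      (𝒳.p.map φ.hom) φ.hom g (g ≫ 𝒳.p.map φ.hom) rfl φ'.hom
    exact ⟨InducedCategory.homMk χ,
      ⟨(BasedFunctor.isHomLift_iff ι g (InducedCategory.homMk χ)).1 hχ,
        InducedCategory.hom_ext hχ'⟩, fun χ' hh => InducedCategory.hom_ext
          (hu χ'.hom ⟨(BasedFunctor.isHomLift_iff ι g χ').2 hh.1, congrArg (·.hom) hh.2⟩)⟩

variable {x y} {R : FpRep x x} {Q : FpRep y y} {A : R.F.obj ⟶ Q.F.obj}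

section

variable {T T' : Over S} {f : FibCat.overCat U ⥤ᵇ 𝒳} {b : T ⟶ U} {c : T' ⟶ U}

theorem exists_fac (h : FibCat.IsFibGrpd 𝒳.p) (r : T ⟶ T') (m : f.obj (Over.mk b) ⟶ f.obj (Over.mk c))
    [𝒳.p.IsHomLift r m] : ∃ θ : Hm f b (r ≫ c), θ.g.hom ≫ f.map (ovm r rfl) = m := by
  have := map_ovm_lift f (b' := r ≫ c) r rfl
  have := L09.Fib.stronglyCartesian_of_isFibGrpd _ h r (f.map (ovm (b' := r ≫ c) (b := c) r rfl))
  let χ := Functor.IsCartesian.map 𝒳.p r (f.map (ovm (b' := r ≫ c) (b := c) r rfl)) m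
  have hχ : 𝒳.p.IsHomLift (𝟙 T) χ := Functor.IsCartesian.map_isHomLift _ _ _ _
  have := L09.Fib.isIso_of_isFibGrpd _ h (𝟙 T) χ
  exact ⟨⟨asIso χ, overId_of_lift hχ⟩,
    Functor.IsCartesian.fac 𝒳.p r (f.map (ovm (b' := r ≫ c) (b := c) r rfl)) m⟩

theorem fac_lift {d : T ⟶ U} (r : T ⟶ T') (hr : r ≫ c = d) (θ : Hm f b d) :
    𝒳.p.IsHomLift r (θ.g.hom ≫ f.map (ovm r hr)) := by
  have := map_ovm_lift f r hr
  have : 𝒳.p.IsHomLift (𝟙 T) θ.g.hom := θ.hg.lift (f.w_obj _)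
  exact IsHomLift.comp_lift_id_left' 𝒳.p T θ.g.hom r _

theorem fac_unique (h : FibCat.IsFibGrpd 𝒳.p) {d : T ⟶ U} (r : T ⟶ T') (hr : r ≫ c = d) {θ θ' : Hm f b d}
    (e : θ.g.hom ≫ f.map (ovm r hr) = θ'.g.hom ≫ f.map (ovm r hr)) : θ = θ' := by
  obtain ⟨g, hg⟩ := θ
  obtain ⟨g', hg'⟩ := θ'
  obtain rfl : g = g' := Iso.ext (ovm_cancel h r hr hg hg' e)
  rfl

end

variable (hA : Compat R Q A) {T T' T'' : Over S} {b : T ⟶ U} {c : T' ⟶ U} {e : T'' ⟶ U}

/-- Morphisms of the two groupoids corresponding to each other. -/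
def Img (m : x.obj (Over.mk b) ⟶ x.obj (Over.mk c)) (n : y.obj (Over.mk b) ⟶ y.obj (Over.mk c)) : Prop :=
  ∃ (r : T ⟶ T') (d : T ⟶ U) (hr : r ≫ c = d) (θ : Hm x b d),
    θ.g.hom ≫ x.map (ovm r hr) = m ∧ (corrH hA θ).g.hom ≫ y.map (ovm r hr) = n

theorem Img.lift {m : x.obj (Over.mk b) ⟶ x.obj (Over.mk c)} {n : y.obj (Over.mk b) ⟶ y.obj (Over.mk c)}
    (h : Img hA m n) : ∃ r : T ⟶ T', 𝒳.p.IsHomLift r m ∧ 𝒴.p.IsHomLift r n := by
  obtain ⟨r, d, hr, θ, rfl, rfl⟩ := h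
  exact ⟨r, fac_lift r hr θ, fac_lift r hr _⟩

theorem exists_img (m : x.obj (Over.mk b) ⟶ x.obj (Over.mk c)) : ∃ n, Img hA m n := by
  let r : T ⟶ T' := eqToHom (x.w_obj (Over.mk b)).symm ≫ 𝒳.p.map m ≫ eqToHom (x.w_obj (Over.mk c))
  have : 𝒳.p.IsHomLift r m := IsHomLift.of_fac 𝒳.p r m (x.w_obj _) (x.w_obj _) rfl
  obtain ⟨θ, hθ⟩ := exists_fac (f := x) (b := b) (c := c) R.grpd r m
  exact ⟨_, r, _, rfl, θ, hθ, rfl⟩

theorem Img.unique {m : x.obj (Over.mk b) ⟶ x.obj (Over.mk c)} {n n' : y.obj (Over.mk b) ⟶ y.obj (Over.mk c)}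
    (h : Img hA m n) (h' : Img hA m n') : n = n' := by
  obtain ⟨r, d, hr, θ, hθ, rfl⟩ := h
  obtain ⟨r', d', hr', θ', hθ', rfl⟩ := h'
  have h1 := fac_lift r hr θ
  have h2 := fac_lift r' hr' θ'
  rw [hθ] at h1
  rw [hθ'] at h2
  obtain rfl : r = r' := base_unique r r' m
  subst hr hr'
  obtain rfl := fac_unique R.grpd r rfl (hθ.trans hθ'.symm)
  rfl

theorem Img.comp (hR : AlgSp.LocP @Smooth R.d) (hy : Rigid y)
    {m : x.obj (Over.mk b) ⟶ x.obj (Over.mk c)} {n : y.obj (Over.mk b) ⟶ y.obj (Over.mk c)}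
    {m' : x.obj (Over.mk c) ⟶ x.obj (Over.mk e)} {n' : y.obj (Over.mk c) ⟶ y.obj (Over.mk e)}
    (h : Img hA m n) (h' : Img hA m' n') : Img hA (m ≫ m') (n ≫ n') := by
  obtain ⟨r, d, hr, θ, rfl, rfl⟩ := h
  obtain ⟨r', d', hr', θ', rfl, rfl⟩ := h'
  obtain ⟨θ'', hθ''⟩ := exists_hRestr R.grpd r (b' := d) (a' := r ≫ d') hr rfl θ'
  have hy'' := corrH_restr hA hθ''
  obtain ⟨_, _, w⟩ := hθ''
  obtain ⟨_, _, w'⟩ := hy''
  refine ⟨r ≫ r', r ≫ d', by rw [Category.assoc, hr'], θ.comp θ'', ?_, ?_⟩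
  · show (θ.g.hom ≫ θ''.g.hom) ≫ x.map (ovm (r ≫ r') _) = _
    rw [show ∀ k, ovm (r ≫ r') k = ovm (b' := r ≫ d') r rfl ≫ ovm r' hr' from fun _ => Over.OverMorphism.ext rfl]
    calc (θ.g.hom ≫ θ''.g.hom) ≫ x.map (ovm (b' := r ≫ d') r rfl ≫ ovm r' hr')
        = θ.g.hom ≫ (θ''.g.hom ≫ x.map (ovm (b' := r ≫ d') (b := d') r rfl)) ≫ x.map (ovm r' hr') := by
          erw [x.toFunctor.map_comp]; simp only [Category.assoc]
      _ = θ.g.hom ≫ (x.map (ovm r hr) ≫ θ'.g.hom) ≫ x.map (ovm r' hr') :=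
          congrArg (fun t => θ.g.hom ≫ t ≫ x.map (ovm r' hr')) w.symm
      _ = _ := by simp only [Category.assoc]
  · rw [corrH_comp hA hR hy]
    show ((corrH hA θ).g.hom ≫ (corrH hA θ'').g.hom) ≫ y.map (ovm (r ≫ r') _) = _
    rw [show ∀ k, ovm (r ≫ r') k = ovm (b' := r ≫ d') r rfl ≫ ovm r' hr' from fun _ => Over.OverMorphism.ext rfl]
    calc ((corrH hA θ).g.hom ≫ (corrH hA θ'').g.hom) ≫ y.map (ovm (b' := r ≫ d') r rfl ≫ ovm r' hr')
        = (corrH hA θ).g.hom ≫ ((corrH hA θ'').g.hom ≫ y.map (ovm (b' := r ≫ d') (b := d') r rfl)) ≫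
            y.map (ovm r' hr') := by
          erw [y.toFunctor.map_comp]; simp only [Category.assoc]
      _ = (corrH hA θ).g.hom ≫ (y.map (ovm r hr) ≫ (corrH hA θ').g.hom) ≫ y.map (ovm r' hr') :=
          congrArg (fun t => (corrH hA θ).g.hom ≫ t ≫ y.map (ovm r' hr')) w'.symm
      _ = _ := by simp only [Category.assoc]

theorem Img.id (hR : AlgSp.LocP @Smooth R.d) (hy : Rigid y) (b : T ⟶ U) :
    Img hA (𝟙 (x.obj (Over.mk b))) (𝟙 (y.obj (Over.mk b))) := by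
  refine ⟨𝟙 T, b, Category.id_comp b, Hm.refl x b, ?_, ?_⟩
  · rw [show ovm (𝟙 T) (Category.id_comp b) = 𝟙 (Over.mk b) from rfl]
    exact (Category.id_comp _).trans (x.toFunctor.map_id _)
  · rw [corrH_refl hA hR hy, show ovm (𝟙 T) (Category.id_comp b) = 𝟙 (Over.mk b) from rfl]
    exact (Category.id_comp _).trans (y.toFunctor.map_id _)

variable (hR : AlgSp.LocP @Smooth R.d) (hy : Rigid y)

/-- The map of morphisms to the second stack. -/
def imgMap {a a' : (chartGpd x).obj} (m : a ⟶ a') : y.obj (Over.mk (show Over U from a).hom) ⟶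
    y.obj (Over.mk (show Over U from a').hom) :=
  (exists_img hA (b := (show Over U from a).hom) (c := (show Over U from a').hom) m.hom).choose

theorem imgMap_spec {a a' : (chartGpd x).obj} (m : a ⟶ a') :
    Img hA (b := (show Over U from a).hom) (c := (show Over U from a').hom) m.hom (imgMap hA m) :=
  (exists_img hA (b := (show Over U from a).hom) (c := (show Over U from a').hom) m.hom).choose_spec

/-- The functor of the groupoid of the first chart to the second stack. -/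
def gpdMap : chartGpd x ⥤ᵇ 𝒴 where
  toFunctor :=
    { obj := fun a => y.obj (Over.mk (show Over U from a).hom)
      map := fun m => imgMap hA m
      map_id := fun a => Img.unique hA (imgMap_spec hA (𝟙 a)) (Img.id hA hR hy _)
      map_comp := fun m m' =>
        Img.unique hA (imgMap_spec hA (m ≫ m')) ((imgMap_spec hA m).comp hA hR hy (imgMap_spec hA m')) }
  w := CategoryTheory.Functor.ext (fun a => (y.w_obj _).trans (x.w_obj _).symm) (fun a a' m => by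
    obtain ⟨r, hm, hn⟩ := (imgMap_spec hA m).lift
    have e1 := IsHomLift.fac' 𝒳.p r m.hom
    have e2 := IsHomLift.fac' 𝒴.p r (imgMap hA m)
    show 𝒴.p.map (imgMap hA m) = _ ≫ 𝒳.p.map m.hom ≫ _
    rw [e1, e2]
    simp)

theorem gpdMap_faithful {B : Q.F.obj ⟶ R.F.obj} (hB : Compat Q R B) (hAB : A ≫ B = 𝟙 _) :
    (gpdMap hA hR hy).toFunctor.Faithful := by
  refine ⟨fun {a a'} {m m'} h => InducedCategory.hom_ext ?_⟩
  obtain ⟨r, d, hr, θ, hθ, hn⟩ := imgMap_spec hA m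
  obtain ⟨r', d', hr', θ', hθ', hn'⟩ := imgMap_spec hA m'
  have h' : imgMap hA m = imgMap hA m' := h
  have h1 := fac_lift r hr (corrH hA θ)
  have h2 := fac_lift r' hr' (corrH hA θ')
  rw [hn] at h1
  rw [hn', ← h'] at h2
  obtain rfl : r = r' := base_unique r r' (imgMap hA m)
  subst hr hr'
  have e := fac_unique Q.grpd r rfl (hn.trans (h'.trans hn'.symm))
  have e' := congrArg (corrH hB) e
  rw [corrH_inv hA hB hAB, corrH_inv hA hB hAB] at e'
  rw [← hθ, ← hθ', e']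

theorem gpdMap_full {B : Q.F.obj ⟶ R.F.obj} (hB : Compat Q R B) (hBA : B ≫ A = 𝟙 _) :
    (gpdMap hA hR hy).toFunctor.Full := by
  refine ⟨fun {a a'} n => ?_⟩
  obtain ⟨b⟩ : Nonempty (Over U) := ⟨a⟩
  let p := (show Over U from a).hom
  let p' := (show Over U from a').hom
  let r := eqToHom (y.w_obj (Over.mk p)).symm ≫ 𝒴.p.map n ≫ eqToHom (y.w_obj (Over.mk p'))
  have : 𝒴.p.IsHomLift r n := IsHomLift.of_fac 𝒴.p r n (y.w_obj _) (y.w_obj _) rfl
  obtain ⟨θy, hθy⟩ := exists_fac (f := y) (b := p) (c := p') Q.grpd r n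
  refine ⟨InducedCategory.homMk ((corrH hB θy).g.hom ≫ x.map (ovm r rfl)), ?_⟩
  refine Img.unique hA (imgMap_spec hA _) ⟨r, _, rfl, corrH hB θy, rfl, ?_⟩
  rw [corrH_inv hB hA hBA]
  exact hθy

end Groth.L11.IsoNat.Bald
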