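import Groth.Agent.L11.IsoNat.Bald.Gpd
import Groth.Agent.L11.IsoNat.ChartsMap

/-!
Bald stacks are determined by their presheaves of isomorphism classes.
-/

set_option autoImplicit false
set_option backward.isDefEq.respectTransparency false
set_option backward.isDefEq.respectTransparency.types false

universe u

open CategoryTheory CategoryTheory.Limits AlgebraicGeometry Groth.L24.St

noncomputable section

namespace Groth.L11.IsoNat.Bald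

variable {S : Scheme.{u}} {𝒰 𝒳 𝒴 : AlgSt.Cat S}

theorem surjective_of_pointsMap {A T : Over S} (b : A ⟶ T)
    (h : Function.Surjective (AlgSp.Points.map ((AlgSp.yon S).map b))) : Surjective b.left :=
  (AlgSp.repWith_yon_map_iff @Surjective b).1 (Groth.L23.repWith_surjective_of_map
    (Functor.relativelyRepresentable.map (AlgSp.yon S) b) h)

/-- A functor through which every object of an atlas lifts is locally surjective. -/
theorem locSurj_of_atlas (h : FibCat.IsFibGrpd 𝒳.p) {U : Over S} {x : FibCat.overCat U ⥤ᵇ 𝒳}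
    (hx : AlgSt.RepByAlgSpWith (AlgSp.LocP @Smooth) x) (hxs : AlgSt.RepByAlgSpWith AlgSp.IsSurjectiveMor x)
    (F : 𝒰 ⥤ᵇ 𝒳) (hF : ∀ k : Over U, ∃ u : 𝒰.obj, F.obj u = x.obj k) : LocSurj (AlgSp.J S) F := by
  intro ξ T hξ
  obtain ⟨v, ε, hε⟩ := exists_overCat_functor (U := T) h ξ hξ
  obtain ⟨R, hR⟩ := exists_fpRep h hx v
  obtain ⟨W, a₀, ha, has⟩ := R.F.property.atlas
  let p := R.pt a₀
  have hs : Smooth p.b.left :=
    hR a₀ (𝟙 _) p.b ha (AlgSp.repWith_id _ T) (by rw [Category.comp_id]; exact R.map_b a₀)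
  have hd : AlgSp.IsSurjectiveMor R.d := by
    obtain ⟨F', e', he', hs'⟩ := hxs T v
    refine (surjective_spMapOfOver_iff _).2 fun t => ?_
    obtain ⟨w, hw⟩ := (surjective_spMapOfOver_iff _).1 hs' t
    obtain ⟨w', hw'⟩ := (bijective_map_of_isEquivOver R.he).surjective (AlgSt.Points.map e' w)
    exact ⟨w', by rw [map_comp_apply, hw', ← map_comp_apply]; exact hw⟩
  have : Surjective p.b.left := surjective_of_pointsMap p.b (by
    rw [← R.map_b a₀]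
    intro t
    obtain ⟨w, rfl⟩ := hd t
    obtain ⟨w', rfl⟩ := Groth.L23.surjective_map_of_repWith has w
    exact ⟨w', AlgSp.Points.map_comp a₀ R.d w'⟩)
  refine ⟨_, Groth.L24.St.generate_mem_J (T := T) (fun _ : PUnit.{u + 1} => W) (fun _ => p.b)
    (fun _ => inferInstance) (fun _ => inferInstance) (fun t => ⟨⟨⟩, p.b.left.surjective t⟩), ?_⟩
  rintro V f ⟨_, k, _, ⟨⟩, rfl⟩
  obtain ⟨u, hu⟩ := hF (Over.mk (k ≫ p.a))
  refine ⟨u, eqToHom hu ≫ x.map (ovm k rfl) ≫ p.θ.inv ≫ v.map (L09.Fib.toTerm (Over.mk p.b)) ≫ ε.hom, ?_⟩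
  have h1 := map_ovm_lift x (b' := k ≫ p.a) (b := p.a) k rfl
  have h2 : 𝒳.p.IsHomLift (𝟙 W) p.θ.inv := p.hθ.inv.lift (x.w_obj _)
  have h3 : 𝒳.p.IsHomLift p.b (v.map (L09.Fib.toTerm (Over.mk p.b))) :=
    (BasedFunctor.isHomLift_iff v _ _).2 (L09.Fib.toTerm_lift (Over.mk p.b))
  have h4 : 𝒳.p.IsHomLift (𝟙 T) ε.hom := hε.lift (v.w_obj _)
  have h5 : 𝒳.p.IsHomLift p.b (v.map (L09.Fib.toTerm (Over.mk p.b)) ≫ ε.hom) :=
    IsHomLift.comp_lift_id_right' 𝒳.p p.b _ T ε.hom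
  have h6 : 𝒳.p.IsHomLift p.b (p.θ.inv ≫ v.map (L09.Fib.toTerm (Over.mk p.b)) ≫ ε.hom) :=
    IsHomLift.comp_lift_id_left' 𝒳.p W p.θ.inv p.b _
  have h7 : 𝒳.p.IsHomLift (k ≫ p.b)
      (x.map (ovm (b' := k ≫ p.a) (b := p.a) k rfl) ≫ p.θ.inv ≫ v.map (L09.Fib.toTerm (Over.mk p.b)) ≫ ε.hom) :=
    inferInstance
  exact inferInstance

theorem exists_equiv_of_fIso {S : Scheme.{u}} {𝒳 𝒴 : AlgSt.Cat S}
    (h𝒳 : AlgSt.IsAlgStack Scheme.fppfPrecoverage 𝒳)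
    (h𝒳d : AlgSt.RepByAlgSpWith (AlgSp.IsSeparatedMor ⊓ AlgSp.IsQuasiCompactMor)
      (FibCat.diag (FibCat.toSelf 𝒳)))
    (h𝒴 : AlgSt.IsAlgStack Scheme.fppfPrecoverage 𝒴)
    (h𝒴d : AlgSt.RepByAlgSpWith (AlgSp.IsSeparatedMor ⊓ AlgSp.IsQuasiCompactMor)
      (FibCat.diag (FibCat.toSelf 𝒴)))
    (h𝒴i : AlgSt.RepByAlgSpWith (AlgSp.LocP @LocallyOfFinitePresentation)
      (FibCat.inertiaToBase (FibCat.toSelf 𝒴)))
    (h𝒳b : IsBald 𝒳) (h𝒴b : IsBald 𝒴) (φ : IsoNat.FIso 𝒳 𝒴) :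
    ∃ e : 𝒳 ⥤ᵇ 𝒴, FibCat.IsEquivOver e := by
  have hgX := h𝒳.isStack.1
  have hgY := h𝒴.isStack.1
  obtain ⟨U, x, hx, hxs⟩ := h𝒳.atlas
  obtain ⟨y, hy⟩ := exists_chart hgY (φ.toEquiv U (IsoNat.objCls x))
  have hys : AlgSt.RepByAlgSpWith (AlgSp.LocP @Smooth) y :=
    repWith_smooth_of_fIso φ hgX h𝒴 h𝒴d h𝒴i hy.symm hx
  have hyj : AlgSt.RepByAlgSpWith AlgSp.IsSurjectiveMor y :=
    surjective_ofChart_of_fIso φ h𝒳 h𝒴 hy.symm (repWith_rep1 hys) hxs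
  have rx := rigid_of_bald h𝒳d hgX h𝒳b hx
  have ry := rigid_of_bald h𝒴d hgY h𝒴b hys
  obtain ⟨R, hR⟩ := exists_fpRep hgX hx x
  obtain ⟨Q, hQ⟩ := exists_fpRep hgY hys y
  have tr : Transfers x y := fun T p => (exists_pt_transfer φ hgY hy.symm hy.symm p.b p.a).1 ⟨p, rfl, rfl⟩
  have tr' : Transfers y x := fun T p => (exists_pt_transfer φ hgY hy.symm hy.symm p.b p.a).2 ⟨p, rfl, rfl⟩
  obtain ⟨A, hA⟩ := exists_compat hR ry tr Q
  obtain ⟨B, hB, hAB, hBA⟩ := exists_inverse_compat hR rx tr' hQ ry hA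
  have := gpdMap_full hA hR ry hB hBA
  have := gpdMap_faithful hA hR ry hB hAB
  exact exists_equiv (i := gpdIncl x) (j := gpdMap hA hR ry) (chartGpd_isFibGrpd x hgX) h𝒳.isStack h𝒴.isStack
    (locSurj_of_atlas hgX hx hxs _ fun k => ⟨k, rfl⟩)
    (locSurj_of_atlas hgY hys hyj _ fun k => ⟨k, rfl⟩)

end Groth.L11.IsoNat.Bald
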